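import Mathlib

set_option autoImplicit false
set_option linter.style.haveILetI false

/-!
# Groups in which every solubilizer is a subgroup

If two-generation detects solvability, a finite group all of whose solubilizers
`Sol(x) = {y | ⟨x, y⟩ solvable}` are subgroups is solvable.
-/

namespace Cfsg.Agent.Solubilizer

universe u

variable {G : Type u} [Group G]

/-- `⟨x, y⟩` is solvable. -/
def Rel (x y : G) : Prop := Group.IsSolvable ↥(Subgroup.closure ({x, y} : Set G))

theorem Rel.symm {x y : G} (h : Rel x y) : Rel y x := by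
  unfold Rel at h ⊢
  rwa [Set.pair_comm]

theorem isSolvable_zpowers (x : G) : Group.IsSolvable (Subgroup.zpowers x) := by
  letI : CommGroup (Subgroup.zpowers x) := IsCyclic.commGroup
  infer_instance

theorem rel_self (x : G) : Rel x x := by
  unfold Rel
  rw [Set.pair_eq_singleton, ← Subgroup.zpowers_eq_closure]
  exact isSolvable_zpowers x

theorem rel_of_mem {M : Subgroup G} (hM : Group.IsSolvable M) {x y : G} (hx : x ∈ M) (hy : y ∈ M) :
    Rel x y := by
  have hle : Subgroup.closure ({x, y} : Set G) ≤ M := (Subgroup.closure_le M).2 (by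
    rintro z (rfl | rfl) <;> assumption)
  haveI := hM
  exact Group.isSolvable_of_isSolvable_injective (Subgroup.inclusion_injective hle)

theorem rel_subtype (H : Subgroup G) (x y : H) : Rel x y ↔ Rel (x : G) y := by
  have e : (Subgroup.closure ({x, y} : Set H)).map H.subtype =
      Subgroup.closure ({(x : G), (y : G)} : Set G) := by
    rw [MonoidHom.map_closure, Set.image_pair]; rfl
  have φ := (Subgroup.closure ({x, y} : Set H)).equivMapOfInjective H.subtype H.subtype_injective
  constructor <;> intro h <;> unfold Rel at h ⊢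
  · haveI := h
    rw [← e]
    exact Group.isSolvable_of_surjective φ.surjective (f := φ.toMonoidHom)
  · rw [← e] at h
    haveI := h
    exact Group.isSolvable_of_surjective φ.symm.surjective (f := φ.symm.toMonoidHom)

/-- Counting: conjugates of a self-normalising `M` meeting pairwise inside `K`. -/
theorem count_conj [Finite G] {M : Subgroup G} {K : Set G}
    (hK : ∀ a m : G, m ∉ K → a * m * a⁻¹ ∉ K)
    (hTI : ∀ a : G, ∀ m ∈ M, m ∉ K → a * m * a⁻¹ ∈ M → a ∈ M) :
    ∃ φ : (G ⧸ M) × {m : M // (m : G) ∉ K} → {g : G // g ∉ K}, Function.Injective φ ∧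
      (∀ z, ∃ a : G, a⁻¹ * (φ z : G) * a ∈ M) ∧
      ∀ y : {g : G // g ∉ K}, (∃ a : G, a⁻¹ * (y : G) * a ∈ M) → y ∈ Set.range φ := by
  refine ⟨fun z => ⟨z.1.out * z.2.1.1 * z.1.out⁻¹, hK _ _ z.2.2⟩, ?_, fun z => ⟨z.1.out, ?_⟩, ?_⟩
  · rintro ⟨q, ⟨⟨m, hm⟩, hmK⟩⟩ ⟨q', ⟨⟨m', hm'⟩, hmK'⟩⟩ h
    simp only [Subtype.mk.injEq] at h
    have ha : q'.out⁻¹ * q.out ∈ M := hTI _ m hm hmK (by
      rw [show q'.out⁻¹ * q.out * m * (q'.out⁻¹ * q.out)⁻¹ = q'.out⁻¹ * (q.out * m * q.out⁻¹) * q'.out
        by group, h]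
      simpa [mul_assoc] using hm')
    obtain rfl : q' = q := by
      rw [← QuotientGroup.out_eq' q, ← QuotientGroup.out_eq' q']
      exact QuotientGroup.eq.2 ha
    obtain rfl : m = m' := by simpa using h
    rfl
  · simpa [mul_assoc] using z.2.1.2
  · rintro ⟨y, hy⟩ ⟨c, hc⟩
    obtain ⟨⟨n, hn⟩, hcn⟩ := QuotientGroup.mk_out_eq_mul M c
    refine ⟨(QuotientGroup.mk c, ⟨⟨n⁻¹ * (c⁻¹ * y * c) * n, mul_mem (mul_mem (inv_mem hn) hc) hn⟩, ?_⟩),
      Subtype.ext ?_⟩
    · simpa using hK n⁻¹ _ (by simpa using hK c⁻¹ y hy)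
    · simp only [hcn]
      group

theorem solvable_aux
    (h2 : ∀ (H : Type u) [Group H] [Finite H], (∀ a b : H, Rel a b) → Group.IsSolvable H) :
    ∀ (n : ℕ) (G : Type u) [Group G] [Finite G], Nat.card G = n →
      (∀ x : G, ∃ H : Subgroup G, (H : Set G) = {y | Rel x y}) → Group.IsSolvable G := by
  intro n
  induction n using Nat.strong_induction_on with
  | _ n ih =>
    intro G _ _ hn hsub
    classical
    by_contra hns
    choose Sol hSol using hsub
    have mem_Sol : ∀ x y : G, y ∈ Sol x ↔ Rel x y := fun x y => by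
      rw [← SetLike.mem_coe, hSol, Set.mem_setOf_eq]
    -- proper subgroups are solvable
    have hprop : ∀ H : Subgroup G, H ≠ ⊤ → Group.IsSolvable H := by
      intro H hH
      refine ih _ (hn ▸ (Subgroup.card_le_card_group H).lt_of_ne
        fun e => hH (H.eq_top_of_card_eq e)) H rfl fun x => ⟨(Sol x).comap H.subtype, ?_⟩
      ext y
      simp only [Subgroup.coe_comap, Set.mem_preimage, SetLike.mem_coe, mem_Sol, rel_subtype]
      rfl
    let K : Set G := {x | ∀ y, Rel x y}
    -- maximal subgroups through an element outside `K` are unique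
    have hmax : ∀ M : Subgroup G, IsCoatom M → ∀ x ∈ M, x ∉ K → Sol x = M := by
      intro M hM x hx hxK
      refine ((hM.le_iff).1 fun y hy => (mem_Sol x y).2 (rel_of_mem (hprop M hM.1) hx hy)).resolve_left
        fun e => hxK fun y => (mem_Sol x y).1 (e ▸ Subgroup.mem_top y)
    obtain ⟨a₀, b₀, hab⟩ : ∃ a b : G, ¬ Rel a b := by
      by_contra hcon
      push Not at hcon
      exact hns (h2 G hcon)
    have ha₀ : a₀ ∉ K := fun h => hab (h b₀)
    have hexists : ∀ x : G, x ∉ K → ∃ M : Subgroup G, IsCoatom M ∧ x ∈ M := by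
      intro x hx
      have hne : Sol x ≠ ⊤ := fun e => hx fun y => (mem_Sol x y).1 (e ▸ Subgroup.mem_top y)
      obtain ⟨M, hM, hle⟩ := (eq_top_or_exists_le_coatom (Sol x)).resolve_left hne
      exact ⟨M, hM, hle ((mem_Sol x x).2 (rel_self x))⟩
    have hK : ∀ M : Subgroup G, IsCoatom M → K ⊆ (M : Set G) := by
      intro M hM
      by_cases h : ∃ x ∈ M, x ∉ K
      · obtain ⟨x, hx, hxK⟩ := h
        intro y hy
        have := (mem_Sol x y).2 (hy x).symm
        rwa [hmax M hM x hx hxK] at this
      · push Not at h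
        exfalso
        obtain ⟨N, hN, haN⟩ := hexists a₀ ha₀
        have hle : M ≤ N := fun y hy => by
          have := (mem_Sol a₀ y).2 (h y hy a₀).symm
          rwa [hmax N hN a₀ haN ha₀] at this
        exact ha₀ (h a₀ ((eq_of_le_of_not_lt hle fun hlt => hN.1 (hM.2 N hlt)) ▸ haN))
    -- no maximal subgroup is normal
    have hnn : ∀ M : Subgroup G, IsCoatom M → Subgroup.normalizer (M : Set G) = M := by
      intro M hM
      refine ((hM.le_iff).1 Subgroup.le_normalizer).resolve_left fun e => hns ?_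
      haveI : M.Normal := Subgroup.normalizer_eq_top_iff.1 e
      haveI := hprop M hM.1
      obtain ⟨g, hg⟩ := SetLike.exists_not_mem_of_ne_top M hM.1
      have hsurj : Function.Surjective (QuotientGroup.mk' M) := QuotientGroup.mk'_surjective M
      have hz : Subgroup.zpowers (QuotientGroup.mk' M g) = ⊤ := by
        rcases hM.le_iff.1 (show M ≤ (Subgroup.zpowers (QuotientGroup.mk' M g)).comap (QuotientGroup.mk' M)
          from fun m hm => by simp [(QuotientGroup.eq_one_iff m).2 hm]) with e | e
        · exact Subgroup.comap_injective hsurj (e.trans (Subgroup.comap_top _).symm)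
        · exact absurd (e ▸ Subgroup.mem_zpowers _ : g ∈ M) hg
      haveI : IsCyclic (G ⧸ M) := ⟨⟨_, fun y => hz ▸ Subgroup.mem_top y⟩⟩
      letI : CommGroup (G ⧸ M) := IsCyclic.commGroup
      exact (Group.isSolvable_iff_subgroup_quotient M).2 ⟨inferInstance, inferInstance⟩
    have hKconj : ∀ a m : G, m ∉ K → a * m * a⁻¹ ∉ K := fun a m hm hc => hm fun y => by
      have h := hc (a * y * a⁻¹)
      unfold Rel at h ⊢
      haveI := h
      let f := (MulAut.conj a⁻¹).toMonoidHom
      have e : (Subgroup.closure ({a * m * a⁻¹, a * y * a⁻¹} : Set G)).map f =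
          Subgroup.closure ({m, y} : Set G) := by
        rw [MonoidHom.map_closure, Set.image_pair]; simp [f, mul_assoc]
      rw [← e]
      exact Group.isSolvable_of_surjective (MonoidHom.subgroupMap_surjective f _)
    have hTI : ∀ M : Subgroup G, IsCoatom M → ∀ a : G, ∀ m ∈ M, m ∉ K → a * m * a⁻¹ ∈ M → a ∈ M := by
      intro M hM a m hm hmK h
      let f := MulAut.conj a
      have hM' : IsCoatom (M.map f.toMonoidHom) :=
        (f.mapSubgroup.isCoatom_iff M).2 hM
      have e := hmax _ hM' _ (Subgroup.mem_map_of_mem f.toMonoidHom hm) (hKconj a m hmK)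
      rw [show f.toMonoidHom m = a * m * a⁻¹ from rfl, hmax M hM _ h (hKconj a m hmK)] at e
      rw [← hnn M hM, Subgroup.mem_normalizer_iff]
      intro y
      constructor
      · intro hy
        rw [e]
        exact Subgroup.mem_map_of_mem f.toMonoidHom hy
      · intro hy
        rw [e] at hy
        obtain ⟨z, hz, hzy⟩ := Subgroup.mem_map.1 hy
        rwa [f.injective (show f z = f y from hzy)] at hz
    -- counting
    have key : ∀ M : Subgroup G, IsCoatom M →
        2 * Nat.card ((G ⧸ M) × {m : M // (m : G) ∉ K}) ≥ Nat.card G ∧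
        Nat.card ((G ⧸ M) × {m : M // (m : G) ∉ K}) < Nat.card {g : G // g ∉ K} := by
      intro M hM
      obtain ⟨a, ha⟩ := SetLike.exists_not_mem_of_ne_top M hM.1
      let F : Subgroup M := (M.comap (MulAut.conj a).toMonoidHom).subgroupOf M
      have hF : ∀ m : M, m ∈ F ↔ (m : G) ∈ K := fun m => by
        constructor
        · intro h
          by_contra hmK
          exact ha (hTI M hM a m m.2 hmK h)
        · intro h
          by_contra hmF
          have : a * (m : G) * a⁻¹ ∈ K := by
            by_contra hc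
            exact hKconj a⁻¹ _ hc (by simpa [mul_assoc] using h)
          exact hmF (hK M hM this)
      have hKF : Nat.card {g : G // g ∈ K} = Nat.card F :=
        Nat.card_congr ⟨fun g => ⟨⟨g.1, hK M hM g.2⟩, (hF _).2 g.2⟩, fun m => ⟨m.1.1, (hF _).1 m.2⟩,
          fun _ => rfl, fun _ => rfl⟩
      have hFM : Nat.card {m : M // (m : G) ∉ K} + Nat.card F = Nat.card M := by
        rw [← Nat.card_congr (Equiv.sumCompl fun m : M => (m : G) ∈ K), Nat.card_sum,
          Nat.card_congr (Equiv.subtypeEquivRight fun m : M => (hF m).symm)]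
        exact add_comm _ _
      have hGK : Nat.card {g : G // g ∉ K} + Nat.card F = Nat.card G := by
        rw [← Nat.card_congr (Equiv.sumCompl fun g : G => g ∈ K), Nat.card_sum, hKF]
        exact add_comm _ _
      have hFtop : F ≠ ⊤ := fun e => by
        have hMK : ∀ m ∈ M, m ∈ K := fun m hm => (hF ⟨m, hm⟩).1 (e ▸ Subgroup.mem_top _)
        obtain ⟨N, hN, haN⟩ := hexists a₀ ha₀
        have hle : M ≤ N := fun y hy => hK N hN (hMK y hy)
        exact ha₀ (hMK a₀ ((eq_of_le_of_not_lt hle fun hlt => hN.1 (hM.2 N hlt)) ▸ haN))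
      have hidx : 2 ≤ F.index := Subgroup.one_lt_index_of_ne_top hFtop
      have hF2 : 2 * Nat.card F ≤ Nat.card M := by
        rw [← F.card_mul_index, mul_comm 2]
        exact Nat.mul_le_mul_left _ hidx
      have hMi : 2 ≤ M.index := Subgroup.one_lt_index_of_ne_top hM.1
      rw [Nat.card_prod, ← Subgroup.index, ← Subgroup.card_mul_index M] at *
      set f := Nat.card F
      set c := Nat.card {m : M // (m : G) ∉ K}
      have hf : 0 < f := Nat.card_pos
      constructor
      · rw [mul_comm (Nat.card M)]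
        calc M.index * Nat.card M ≤ M.index * (2 * c) := Nat.mul_le_mul_left _ (by omega)
          _ = 2 * (M.index * c) := by ring
      · rw [← hFM] at hGK
        nlinarith
    obtain ⟨M, hM, ha₀M⟩ := hexists a₀ ha₀
    obtain ⟨φ, hφ, hφM, hφsurj⟩ := count_conj hKconj (hTI M hM)
    obtain ⟨⟨g, hg⟩, hgφ⟩ : ∃ g, g ∉ Set.range φ := by
      by_contra hcon
      push Not at hcon
      exact (key M hM).2.not_ge (Nat.card_le_card_of_surjective φ hcon)
    obtain ⟨N, hN, hgN⟩ := hexists g hg
    obtain ⟨ψ, hψ, hψN, -⟩ := count_conj hKconj (hTI N hN)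
    have hdisj : ∀ z w, φ z ≠ ψ w := by
      intro z w hzw
      obtain ⟨a, ha⟩ := hφM z
      obtain ⟨b, hb⟩ := hψN w
      rw [hzw] at ha
      -- `N` is a conjugate of `M`, so `g` is in the image of `φ`
      have hx : b⁻¹ * (ψ w : G) * b ∉ K := by
        simpa using hKconj b⁻¹ _ (ψ w).2
      let f := MulAut.conj (b⁻¹ * a)
      have hM' : IsCoatom (M.map f.toMonoidHom) := (f.mapSubgroup.isCoatom_iff M).2 hM
      have e1 := hmax _ hM' _ (Subgroup.mem_map.2 ⟨_, ha, by simp [f, mul_assoc]⟩) hx
      rw [hmax N hN _ hb hx] at e1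
      rw [e1, Subgroup.mem_map] at hgN
      obtain ⟨m, hm, hmg⟩ := hgN
      have hmg' : b⁻¹ * a * m * (b⁻¹ * a)⁻¹ = g := hmg
      exact hgφ (hφsurj ⟨g, hg⟩ ⟨b⁻¹ * a, by
        show (b⁻¹ * a)⁻¹ * g * (b⁻¹ * a) ∈ M
        rw [← hmg']
        simpa [mul_assoc] using hm⟩)
    have htot := Nat.card_le_card_of_injective (Sum.elim φ ψ) (hφ.sumElim hψ hdisj)
    rw [Nat.card_sum] at htot
    have h1 := (key M hM).1
    have h2' := (key N hN).1
    have hlt : Nat.card {g : G // g ∉ K} < Nat.card G := Finite.card_subtype_lt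
      (x := (1 : G)) (fun h => h fun y => rel_of_mem (isSolvable_zpowers y)
        (one_mem _) (Subgroup.mem_zpowers y))
    omega

end Cfsg.Agent.Solubilizer
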