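import Cfsg.Agent.Lib.Solubilizer.Basic
import Cfsg.Agent.Lib.PSL2.Klein
import Cfsg.Agent.Lib.PSL2.Circle
import Cfsg.Agent.Lib.PSL2.MinimalSimple
import Cfsg.Agent.Lib.PSL2.MaximalShape

/-!
Solubilizers `{y | ⟨x, y⟩ solvable}` in `PSL(2, q)`.

A solvable subgroup has a non-trivial normal abelian subgroup, so lies in a Borel subgroup, in a torus
normaliser, or normalises a four-group.  The solubilizers are then described by conditions on entries
and traces of the lifts in `SL(2, q)`, which are counted.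
-/

set_option autoImplicit false

open Matrix
open scoped MatrixGroups commutatorElement

namespace Cfsg.Agent.Solubilizer

open PSL2 PSL2.Circle

section General

variable {G : Type*} [Group G]

theorem Rel.map {H : Type*} [Group H] (f : G →* H) {x y : G} (h : Rel x y) : Rel (f x) (f y) := by
  unfold Rel at h ⊢
  haveI := h
  have e : (Subgroup.closure ({x, y} : Set G)).map f = Subgroup.closure ({f x, f y} : Set H) := by
    rw [MonoidHom.map_closure, Set.image_pair]
  rw [← e]
  exact Group.isSolvable_of_surjective (MonoidHom.subgroupMap_surjective f _)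

theorem card_rel_map (σ : MulAut G) (x : G) :
    Nat.card {y // Rel (σ x) y} = Nat.card {y // Rel x y} := by
  refine (Nat.card_congr (σ.toEquiv.subtypeEquiv fun y => ⟨fun h => h.map σ.toMonoidHom, fun h => ?_⟩)).symm
  have h' := h.map σ.symm.toMonoidHom
  simpa using h'

/-- Adjoining a normalising element keeps solvability. -/
theorem isSolvable_sup_zpowers [Finite G] (N : Subgroup G) (hN : Group.IsSolvable N) (u : G)
    (hu : ∀ n ∈ N, u * n * u⁻¹ ∈ N) : Group.IsSolvable (N ⊔ Subgroup.zpowers u : Subgroup G) := by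
  have hle : N.map (MulAut.conj u).toMonoidHom ≤ N := by
    rintro _ ⟨n, hn, rfl⟩; exact hu n hn
  have heq := Subgroup.eq_of_le_of_card_ge hle
    (Nat.card_congr (N.equivMapOfInjective (MulAut.conj u).toMonoidHom (MulAut.conj u).injective).toEquiv).le
  have huN : u ∈ Subgroup.normalizer (N : Set G) := by
    rw [Subgroup.mem_normalizer_iff]
    intro v
    conv_rhs => rw [← heq, Subgroup.mem_map_equiv, MulAut.conj_symm_apply]
    group
  set K := N ⊔ Subgroup.zpowers u
  have hKN : K ≤ Subgroup.normalizer (N : Set G) :=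
    sup_le Subgroup.le_normalizer (Subgroup.zpowers_le.2 huN)
  have hn : (N.subgroupOf K).Normal := Subgroup.normal_subgroupOf_of_le_normalizer hKN
  have huK : u ∈ K := Subgroup.mem_sup_right (Subgroup.mem_zpowers u)
  set Z := (Subgroup.zpowers (QuotientGroup.mk' (N.subgroupOf K) ⟨u, huK⟩)).comap
    (QuotientGroup.mk' (N.subgroupOf K))
  have hZ : ∀ z : K, z ∈ Z := by
    have h : K ≤ Z.map K.subtype := by
      refine sup_le (fun n hn' => ?_) (Subgroup.zpowers_le.2 ⟨⟨u, huK⟩, Subgroup.mem_zpowers _, rfl⟩)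
      refine ⟨⟨n, Subgroup.mem_sup_left hn'⟩, ?_, rfl⟩
      show QuotientGroup.mk' (N.subgroupOf K) ⟨n, Subgroup.mem_sup_left hn'⟩ ∈ Subgroup.zpowers _
      have h1 : QuotientGroup.mk' (N.subgroupOf K) ⟨n, Subgroup.mem_sup_left hn'⟩ = 1 :=
        (QuotientGroup.eq_one_iff _).2 (Subgroup.mem_subgroupOf.2 hn')
      rw [h1]
      exact one_mem _
    intro z
    obtain ⟨w, hw, hwz⟩ := h z.2
    exact (Subtype.ext hwz : w = z) ▸ hw
  haveI : IsCyclic (K ⧸ N.subgroupOf K) :=
    ⟨⟨QuotientGroup.mk' _ ⟨u, huK⟩, fun y => by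
      obtain ⟨z, rfl⟩ := QuotientGroup.mk'_surjective _ y
      exact hZ z⟩⟩
  letI : CommGroup (K ⧸ N.subgroupOf K) := IsCyclic.commGroup
  haveI := hN
  haveI : Group.IsSolvable (N.subgroupOf K) :=
    Group.isSolvable_of_isSolvable_injective (Subgroup.subgroupOfEquivOfLe le_sup_left).injective
      (f := (Subgroup.subgroupOfEquivOfLe (le_sup_left : N ≤ K)).toMonoidHom)
  exact (Group.isSolvable_iff_subgroup_quotient (N.subgroupOf K)).2 ⟨inferInstance, inferInstance⟩

theorem rel_involutions [Finite G] {u v : G} (hu : u * u = 1) (hv : v * v = 1) : Rel u v := by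
  have hinv : u * (u * v) * u⁻¹ = (u * v)⁻¹ := by
    rw [_root_.mul_inv_rev, inv_eq_of_mul_eq_one_right hu, inv_eq_of_mul_eq_one_right hv, ← mul_assoc u u,
      hu, one_mul]
  refine rel_of_mem (isSolvable_sup_zpowers _ (isSolvable_zpowers (u * v)) u ?_)
    (Subgroup.mem_sup_right (Subgroup.mem_zpowers u)) ?_
  · rintro _ ⟨i, rfl⟩
    exact ⟨-i, by show (u * v) ^ (-i) = u * (u * v) ^ i * u⁻¹; rw [← conj_zpow, hinv, _root_.inv_zpow, _root_.zpow_neg]⟩
  · have h := Subgroup.mul_mem _
      (Subgroup.mem_sup_right (S := Subgroup.zpowers (u * v)) (Subgroup.mem_zpowers u))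
      (Subgroup.mem_sup_left (T := Subgroup.zpowers u) (Subgroup.mem_zpowers (u * v)))
    rwa [← mul_assoc, hu, one_mul] at h

theorem rel_comm [Finite G] {u v : G} (h : v * u = u * v) : Rel u v := by
  refine rel_of_mem (isSolvable_sup_zpowers _ (isSolvable_zpowers u) v ?_)
    (Subgroup.mem_sup_left (Subgroup.mem_zpowers u)) (Subgroup.mem_sup_right (Subgroup.mem_zpowers v))
  rintro _ ⟨i, rfl⟩
  refine ⟨i, ?_⟩
  show u ^ i = v * u ^ i * v⁻¹
  rw [((show Commute v u from h).zpow_right i).eq, mul_inv_cancel_right]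

/-- The relations of `A₄`. -/
theorem rel_tetrahedral [Finite G] {u v : G} (hu : u * u = 1) (hv : v * v * v = 1)
    (huv : u * v * (u * v) * (u * v) = 1) : Rel u v := by
  set u' := v * u * v⁻¹ with hu'
  set u'' := v * u' * v⁻¹ with hu''
  have hu'2 : u' * u' = 1 := by
    rw [hu', show v * u * v⁻¹ * (v * u * v⁻¹) = v * (u * u) * v⁻¹ by group, hu, mul_one, mul_inv_cancel]
  have hu''2 : u'' * u'' = 1 := by
    rw [hu'', show v * u' * v⁻¹ * (v * u' * v⁻¹) = v * (u' * u') * v⁻¹ by group, hu'2, mul_one,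
      mul_inv_cancel]
  have h3 : u * u' * u'' = 1 := by
    rw [hu'', hu']
    calc u * (v * u * v⁻¹) * (v * (v * u * v⁻¹) * v⁻¹)
        = u * v * (u * v) * (u * v) * (v * v * v)⁻¹ := by group
      _ = 1 := by rw [huv, hv, inv_one, mul_one]
  have hu''eq : u'' = u' * u := by
    rw [← inv_eq_of_mul_eq_one_right h3, _root_.mul_inv_rev, inv_eq_of_mul_eq_one_right hu'2,
      inv_eq_of_mul_eq_one_right hu]
  have hc : u * u' = u' * u := by
    rw [← hu''eq, show u * u' = u * u' * (u'' * u'') by rw [hu''2, mul_one], ← mul_assoc, h3, one_mul]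
  have hN : Group.IsSolvable (Subgroup.zpowers u ⊔ Subgroup.zpowers u' : Subgroup G) := by
    refine isSolvable_sup_zpowers _ (isSolvable_zpowers u) u' ?_
    rintro _ ⟨i, rfl⟩
    refine ⟨i, ?_⟩
    show u ^ i = u' * u ^ i * u'⁻¹
    rw [((show Commute u' u from hc.symm).zpow_right i).eq, mul_inv_cancel_right]
  refine rel_of_mem (isSolvable_sup_zpowers _ hN v ?_)
    (Subgroup.mem_sup_left (Subgroup.mem_sup_left (Subgroup.mem_zpowers u)))
    (Subgroup.mem_sup_right (Subgroup.mem_zpowers v))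
  set N := Subgroup.zpowers u ⊔ Subgroup.zpowers u'
  have h1 : Subgroup.zpowers u ⊔ Subgroup.zpowers u' ≤ N.comap (MulAut.conj v).toMonoidHom := by
    refine sup_le (Subgroup.zpowers_le.2 ?_) (Subgroup.zpowers_le.2 ?_)
    · exact Subgroup.mem_sup_right (Subgroup.mem_zpowers u')
    · show u'' ∈ N
      rw [hu''eq]
      exact N.mul_mem (Subgroup.mem_sup_right (Subgroup.mem_zpowers u'))
        (Subgroup.mem_sup_left (Subgroup.mem_zpowers u))
  exact fun n hn => h1 hn

/-- A non-trivial solvable subgroup has a non-trivial normal abelian subgroup. -/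
theorem exists_normal_abelian (S : Subgroup G) [Group.IsSolvable S] (hS : S ≠ ⊥) :
    ∃ A : Subgroup G, A ≤ S ∧ A ≠ ⊥ ∧ (∀ a ∈ A, ∀ b ∈ A, a * b = b * a) ∧
      ∀ s ∈ S, ∀ a ∈ A, s * a * s⁻¹ ∈ A := by
  classical
  have hex : ∃ n, derivedSeries S n = ⊥ := Group.IsSolvable.solvable
  have h0 : Nat.find hex ≠ 0 := by
    intro h
    have h' := Nat.find_spec hex
    rw [h, derivedSeries_zero] at h'
    refine hS ?_
    rw [← Subgroup.range_subtype S, MonoidHom.range_eq_map, h', Subgroup.map_bot]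
  obtain ⟨n, hn⟩ := Nat.exists_eq_succ_of_ne_zero h0
  have hne : derivedSeries S n ≠ ⊥ := Nat.find_min hex (by omega)
  have hbot : derivedSeries S (n + 1) = ⊥ := by
    have := Nat.find_spec hex
    rwa [hn] at this
  refine ⟨(derivedSeries S n).map S.subtype, Subgroup.map_subtype_le _, ?_, ?_, ?_⟩
  · rw [Ne, Subgroup.map_eq_bot_iff_of_injective _ S.subtype_injective]; exact hne
  · rintro _ ⟨a, ha, rfl⟩ _ ⟨b, hb, rfl⟩
    have h1 : ⁅a, b⁆ = 1 := by
      rw [← Subgroup.mem_bot, ← hbot, derivedSeries_succ]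
      exact Subgroup.commutator_mem_commutator ha hb
    rw [← map_mul, ← map_mul, commutatorElement_eq_one_iff_mul_comm.1 h1]
  · rintro s hs _ ⟨a, ha, rfl⟩
    exact ⟨⟨s, hs⟩ * a * ⟨s, hs⟩⁻¹, (derivedSeries_normal S n).conj_mem a ha _, rfl⟩

end General

variable {F : Type*} [Field F] [Fintype F]

/-- Two commuting lifts of trace zero agree up to sign. -/
theorem mk_eq_of_commute_tr_zero (h2 : (2 : F) ≠ 0) {g z : SL(2, F)} (hg : tr g = 0) (hz : tr z = 0)
    (hc : Commute z g) : mk z = mk g := by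
  obtain ⟨x, y, a1, a2, a3, a4⟩ :=
    exists_coords (not_mem_center_of_tr (tr_sq_ne_four_of_tr_eq_zero h2 hg)) hc
  rw [tr_def] at hg hz
  have hx : x = 0 := (mul_eq_zero.1 (show 2 * x = 0 by
    linear_combination hz - a1 - a4 - y * hg)).resolve_left h2
  have hd := det_eq z
  rw [a1, a2, a3, a4, hx] at hd
  have hy : (y - 1) * (y + 1) = 0 := by linear_combination hd - y ^ 2 * det_eq g
  rw [mk_eq_mk]
  rcases mul_eq_zero.1 hy with h | h
  · left; apply ext2 <;> simp [a1, a2, a3, a4, hx, sub_eq_zero.1 h]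
  · right; apply ext2 <;> simp [a1, a2, a3, a4, hx, eq_neg_of_add_eq_zero_left h]

/-- An element commuting with both members of a pair of commuting involutions is in their four-group. -/
theorem mem_klein_of_commute (h2 : (2 : F) ≠ 0) {x y c : PSL(2, F)} (h : IsInvPair x y)
    (hx : c * x = x * c) (hy : c * y = y * c) : c ∈ klein x y h := by
  obtain ⟨g, rfl, hg0, -⟩ := exists_tr_eq_zero h.1
  obtain ⟨w, hw, rfl⟩ := exists_lift h2 hg0 h
  obtain ⟨z, rfl⟩ := mk_surjective c
  have hgc := not_mem_center_of_tr (tr_sq_ne_four_of_tr_eq_zero h2 hg0)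
  have hwg : w * g * w⁻¹ = -g := by rw [hw.anticomm, neg_mul, mul_inv_cancel_right]
  -- elements commuting with `g` and commuting projectively with `w`
  have key : ∀ u : SL(2, F), Commute u g → Commute (mk u) (mk w) →
      mk u = 1 ∨ mk u = mk g := by
    intro u hu huw
    rcases psl_commute_iff.1 huw with e | e
    · -- commutes with both
      left
      rw [mk_eq_one, ← mem_center_iff_pm]
      by_contra huc
      have h1 := cent_comm huc (Commute.symm hu) (show Commute w u from
        (mul_inv_eq_iff_eq_mul.1 e : u * w = w * u).symm)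
      have h1' : w * g * w⁻¹ = g := by rw [h1.symm.eq, mul_inv_cancel_right]
      rw [hwg] at h1'
      exact hgc (mem_center_iff_pm.2 (absurd (h1') (fun e' => ne_inv_of_tr
        (tr_sq_ne_four_of_tr_eq_zero h2 hg0) (by rw [inv_eq_neg_of_tr_eq_zero hg0, e']))))
    · right
      refine mk_eq_of_commute_tr_zero h2 hg0 ?_ hu
      have e' : w * u * w⁻¹ = -u := by
        have h1 : u * w = -w * u := mul_inv_eq_iff_eq_mul.1 e
        have h2' : w * u = -(u * w) := by rw [h1, neg_mul, neg_neg]
        rw [h2', neg_mul, mul_inv_cancel_right]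
      have := congrArg tr e'
      rw [tr_conj, tr_neg] at this
      exact (mul_eq_zero.1 (show 2 * tr u = 0 by linear_combination this)).resolve_left h2
  rcases psl_commute_iff.1 (show Commute (mk z) (mk g) from hx) with e | e
  · rcases key z (mul_inv_eq_iff_eq_mul.1 e) hy with h' | h' <;> rw [h']
    · exact mem_klein.2 (Or.inl rfl)
    · exact mem_klein.2 (Or.inr (Or.inl rfl))
  · have hzw : Commute (z * w) g := by
      refine mul_inv_eq_iff_eq_mul.1 ?_
      rw [show z * w * g * (z * w)⁻¹ = z * (w * g * w⁻¹) * z⁻¹ by group, hwg, mul_neg, neg_mul, e, neg_neg]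
    have hc : Commute (mk (z * w)) (mk w) := by
      rw [map_mul]
      exact Commute.mul_left hy (Commute.refl _)
    have hww : mk w * mk w = 1 := IsInvPair.sq hw.isInvPair.2.1
    rcases key _ hzw hc with h' | h' <;> rw [map_mul] at h'
    · rw [show mk z = mk w by rw [eq_inv_of_mul_eq_one_left h', inv_eq_of_mul_eq_one_right hww]]
      exact mem_klein.2 (Or.inr (Or.inr (Or.inl rfl)))
    · rw [show mk z = mk g * mk w by rw [← h', mul_assoc, hww, mul_one]]
      exact mem_klein.2 (Or.inr (Or.inr (Or.inr rfl)))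

/-- Solvable subgroups. -/
theorem solvable_cases (S : Subgroup PSL(2, F)) [Group.IsSolvable S] :
    S = ⊥ ∨ (∃ k : SL(2, F), ∀ s ∈ S, mk k * s * (mk k)⁻¹ ∈ (borel F).map mk) ∨
    (∃ h : SL(2, F), tr h ^ 2 ≠ 4 ∧ S ≤ (Subgroup.normalizer (cent h : Set SL(2, F))).map mk) ∨
    ((2 : F) ≠ 0 ∧ ∃ x y, ∃ hxy : IsInvPair x y, ∀ s ∈ S, ∀ v ∈ klein x y hxy,
      s * v * s⁻¹ ∈ klein x y hxy) := by
  by_cases hS : S = ⊥
  · exact Or.inl hS
  right
  obtain ⟨A, -, hA, hAc, hAn⟩ := exists_normal_abelian S hS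
  by_cases hbig : ∃ a ∈ A, a ≠ 1 ∧ (orderOf a ≠ 2 ∨ (2 : F) = 0)
  · obtain ⟨a, ha, ha1, ho⟩ := hbig
    rcases psl_cases ha1 with ⟨g, rfl, h4⟩ | ⟨k, t, ht, rfl⟩
    · right; left
      refine ⟨g, h4, fun s hs => ?_⟩
      obtain ⟨s, rfl⟩ := mk_surjective s
      have ht : tr g ≠ 0 ∨ (2 : F) = 0 := ho.imp_left fun h h0 =>
        h (orderOf_mk_eq_two h0 (mk_ne_one_iff.1 ha1))
      have hmem : mk s * mk g * (mk s)⁻¹ ∈ Subgroup.centralizer {mk g} :=
        Subgroup.mem_centralizer_singleton_iff.2 (hAc _ (hAn _ hs _ ha) _ ha)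
      rw [psl_centralizer_eq ht, ← map_inv, ← map_mul, ← map_mul,
        mk_mem_map_iff (center_le_cent g), mem_cent] at hmem
      exact Subgroup.mem_map_of_mem mk ((mem_normalizer_cent h4).2
        (eq_or_eq_inv_of_tr_eq h4 hmem (tr_conj s g)))
    · left
      refine ⟨k⁻¹, fun s hs => ?_⟩
      obtain ⟨s, rfl⟩ := mk_surjective s
      rw [← map_inv, ← map_mul, ← map_mul]
      set s' := k⁻¹ * s * k⁻¹⁻¹ with hs'
      have htu : tr (uu t) ≠ 0 ∨ (2 : F) = 0 := by
        rw [tr_uu]
        exact (em ((2 : F) = 0)).symm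
      have hmem : mk (s' * uu t * s'⁻¹) ∈ Subgroup.centralizer ({mk (uu t)} : Set PSL(2, F)) := by
        rw [Subgroup.mem_centralizer_singleton_iff]
        have h := congrArg (fun z => mk k⁻¹ * z * (mk k⁻¹)⁻¹) (hAc _ (hAn _ hs _ ha) _ ha)
        simp only [← map_inv, ← map_mul] at h ⊢
        rw [hs']
        convert h using 2 <;> group
      rw [psl_centralizer_eq htu, mk_mem_map_iff (center_le_cent _), cent_uu ht, mem_pmUnip] at hmem
      refine Subgroup.mem_map_of_mem mk ?_
      rcases hmem with h | h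
      · obtain ⟨r, hr⟩ := mem_unip.1 h
        exact uu_conj_mem_borel ht hr.symm
      · have h10 := (mem_unip_iff_entries.1 h).1
        have e : (s' * uu t * s'⁻¹) 1 0 = -(t * (s' 1 0) ^ 2) := by
          simp only [mul00, mul01, mul10, mul11, inv00, inv10, uu00, uu01, uu10, uu11]; ring
        have h10' : -((s' * uu t * s'⁻¹) 1 0) = 0 := by simpa using h10
        rw [e, neg_neg] at h10'
        exact mem_borel.2 (sq_eq_zero_iff.1 ((mul_eq_zero.1 h10').resolve_left ht))
  · push Not at hbig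
    obtain ⟨a, ha, ha1⟩ := A.bot_or_exists_ne_one.resolve_left hA
    obtain ⟨hao, h2⟩ := hbig a ha ha1
    by_cases hsmall : ∀ b ∈ A, b = 1 ∨ b = a
    · right; left
      obtain ⟨g, rfl, hg0, -⟩ := exists_tr_eq_zero hao
      refine ⟨g, tr_sq_ne_four_of_tr_eq_zero h2 hg0, fun s hs => ?_⟩
      rw [← psl_centralizer_involution h2 hg0, Subgroup.mem_centralizer_singleton_iff]
      rcases hsmall _ (hAn s hs _ ha) with e | e
      · exact absurd (conj_eq_one_iff.1 e) ha1
      · exact mul_inv_eq_iff_eq_mul.1 e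
    · push Not at hsmall
      obtain ⟨b, hb, hb1, hba⟩ := hsmall
      right; right
      have hxy : IsInvPair a b := ⟨hao, (hbig b hb hb1).1, hAc a ha b hb, hba.symm⟩
      have hV : ∀ c, c ∈ A ↔ c ∈ klein a b hxy := by
        refine fun c => ⟨fun hc => mem_klein_of_commute h2 hxy (hAc c hc a ha) (hAc c hc b hb), ?_⟩
        intro hc
        rcases mem_klein.1 hc with rfl | rfl | rfl | rfl
        exacts [A.one_mem, ha, hb, A.mul_mem ha hb]
      exact ⟨h2, a, b, hxy, fun s hs v hv => (hV _).1 (hAn s hs v ((hV _).2 hv))⟩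

/-- Elements normalising a four-group have order dividing 24. -/
theorem pow_eq_one_of_normalizes_klein (h2 : (2 : F) ≠ 0) {x y : PSL(2, F)} (hxy : IsInvPair x y)
    {s : PSL(2, F)} (hs : ∀ v ∈ klein x y hxy, s * v * s⁻¹ ∈ klein x y hxy) : s ^ 24 = 1 := by
  set f : klein x y hxy → klein x y hxy := fun v => ⟨s * v * s⁻¹, hs v v.2⟩
  have hf : Function.Injective f := fun u v e => Subtype.ext (conj_injective (congrArg Subtype.val e))
  let σ : Equiv.Perm (klein x y hxy) := Equiv.ofBijective f ⟨hf, Finite.surjective_of_injective hf⟩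
  have hσ : σ ^ 12 = 1 := by
    have e : klein x y hxy ≃ Fin 4 := Finite.equivFinOfCardEq (card_klein hxy)
    apply e.permCongrHom.injective
    rw [map_pow, map_one]
    have hall : ∀ τ : Equiv.Perm (Fin 4), τ ^ 12 = 1 := by decide +kernel
    exact hall _
  have hn : ∀ (n : ℕ) (v : klein x y hxy), ((σ ^ n) v : PSL(2, F)) = s ^ n * v * (s ^ n)⁻¹ := by
    intro n
    induction n with
    | zero => intro v; simp
    | succ n ih =>
      intro v
      rw [pow_succ', Equiv.Perm.mul_apply]
      show s * ((σ ^ n) v : PSL(2, F)) * s⁻¹ = _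
      rw [ih, pow_succ']
      group
  have hfix : ∀ v ∈ klein x y hxy, s ^ 12 * v = v * s ^ 12 := by
    intro v hv
    have := hn 12 ⟨v, hv⟩
    rw [hσ, Equiv.Perm.one_apply] at this
    exact mul_inv_eq_iff_eq_mul.1 this.symm
  have hmem := mem_klein_of_commute h2 hxy (hfix x (mem_klein.2 (Or.inr (Or.inl rfl))))
    (hfix y (mem_klein.2 (Or.inr (Or.inr (Or.inl rfl)))))
  rw [show 24 = 12 * 2 from rfl, pow_mul, pow_two]
  rcases mem_klein.1 hmem with e | e | e | e <;> rw [e]
  · simp
  · exact IsInvPair.sq hxy.1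
  · exact IsInvPair.sq hxy.2.1
  · rw [mul_sq_of_commute hxy.2.2.1, IsInvPair.sq hxy.1, IsInvPair.sq hxy.2.1, one_mul]

theorem rel_cases {x y : PSL(2, F)} (hx : x ≠ 1) (h : Rel x y) :
    (∃ k : SL(2, F), mk k * x * (mk k)⁻¹ ∈ (borel F).map mk ∧
      mk k * y * (mk k)⁻¹ ∈ (borel F).map mk) ∨
    (∃ h : SL(2, F), tr h ^ 2 ≠ 4 ∧ x ∈ (Subgroup.normalizer (cent h : Set SL(2, F))).map mk ∧
      y ∈ (Subgroup.normalizer (cent h : Set SL(2, F))).map mk) ∨
    ((2 : F) ≠ 0 ∧ x ^ 24 = 1 ∧ y ^ 24 = 1 ∧ (x * y) ^ 24 = 1) := by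
  have hxS : x ∈ Subgroup.closure ({x, y} : Set PSL(2, F)) := Subgroup.subset_closure (Or.inl rfl)
  have hyS : y ∈ Subgroup.closure ({x, y} : Set PSL(2, F)) := Subgroup.subset_closure (Or.inr rfl)
  haveI : Group.IsSolvable (Subgroup.closure ({x, y} : Set PSL(2, F))) := h
  rcases solvable_cases (Subgroup.closure ({x, y} : Set PSL(2, F))) with
    e | ⟨k, hk⟩ | ⟨g, hg, hle⟩ | ⟨h2, a, b, hab, hn⟩
  · rw [e, Subgroup.mem_bot] at hxS
    exact absurd hxS hx
  · exact Or.inl ⟨k, hk x hxS, hk y hyS⟩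
  · exact Or.inr (Or.inl ⟨g, hg, hle hxS, hle hyS⟩)
  · exact Or.inr (Or.inr ⟨h2, pow_eq_one_of_normalizes_klein h2 hab (hn x hxS),
      pow_eq_one_of_normalizes_klein h2 hab (hn y hyS),
      pow_eq_one_of_normalizes_klein h2 hab (hn _ (Subgroup.mul_mem _ hxS hyS))⟩)

/-- Solubilizer count through lifts. -/
theorem gcd_mul_card_sol (x : PSL(2, F)) (P : SL(2, F) → Prop) (h : ∀ g, Rel x (mk g) ↔ P g) :
    Nat.gcd 2 (Fintype.card F - 1) * Nat.card {y // Rel x y} = Nat.card {g // P g} := by
  have e : {g // P g} ≃ Subgroup.center SL(2, F) × {y // Rel x y} :=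
    (Equiv.subtypeEquivRight fun g => (h g).symm).trans
      (QuotientGroup.preimageMkEquivSubgroupProdSet (Subgroup.center SL(2, F)) {y | Rel x y})
  rw [Nat.card_congr e, Nat.card_prod, card_center]

theorem card_or (P Q : SL(2, F) → Prop) :
    Nat.card {g // P g ∨ Q g} = Nat.card {g // P g} + Nat.card {g // Q g ∧ ¬ P g} := by
  classical
  simp only [Nat.card_eq_fintype_card, Fintype.card_subtype]
  rw [← Finset.card_union_of_disjoint]
  · congr 1
    ext g
    by_cases hP : P g <;> simp [hP]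
  · rw [Finset.disjoint_left]
    intro g h1 h2
    simp only [Finset.mem_filter] at h1 h2
    exact h2.2.2 h1.2

/-- Counting lifts off the Borel subgroup by trace and lower left entry. -/
theorem card_lifts (R : F → F → Prop) :
    Nat.card {g : SL(2, F) // g 1 0 ≠ 0 ∧ R (tr g) (g 1 0)} =
      Fintype.card F * Nat.card {p : F × F // p.2 ≠ 0 ∧ R p.1 p.2} := by
  rw [← Nat.card_eq_fintype_card (α := F), ← Nat.card_prod]
  refine Nat.card_congr
    { toFun := fun g => ⟨g.1 0 0, ⟨(tr g.1, g.1 1 0), g.2⟩⟩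
      invFun := fun z => ⟨⟨!![z.1, (z.1 * (z.2.1.1 - z.1) - 1) / z.2.1.2; z.2.1.2, z.2.1.1 - z.1], by
          have := z.2.2.1
          rw [Matrix.det_fin_two_of]; field_simp; ring⟩, by
          refine ⟨z.2.2.1, ?_⟩
          show R (z.1 + (z.2.1.1 - z.1)) z.2.1.2
          rw [add_sub_cancel]
          exact z.2.2.2⟩
      left_inv := fun g => by
        refine Subtype.ext (ext2 ?_ ?_ ?_ ?_) <;> simp [tr_def]
        have hd := det_eq g.1
        have hc := g.2.1
        field_simp
        linear_combination hd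
      right_inv := fun z => by
        refine Prod.ext rfl (Subtype.ext (Prod.ext ?_ rfl))
        show z.1 + (z.2.1.1 - z.1) = z.2.1.1
        ring }

theorem card_borel_pred : Nat.card {g : SL(2, F) // g 1 0 = 0} = (Fintype.card F - 1) * Fintype.card F :=
  card_borel' (F := F)

/-- Elements of the normaliser of the diagonal torus. -/
theorem mem_normalizer_dd {a : Fˣ} (ha : (a : F) ^ 2 ≠ 1) {g : SL(2, F)} :
    g ∈ Subgroup.normalizer (cent (dd a) : Set SL(2, F)) ↔
      (g 0 1 = 0 ∧ g 1 0 = 0) ∨ (g 0 0 = 0 ∧ g 1 1 = 0) := by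
  have hne : (a : F) - ((a⁻¹ : Fˣ) : F) ≠ 0 := by
    intro h
    apply ha
    have := a.mul_inv
    linear_combination (a : F) * h + this
  rw [mem_normalizer_cent (tr_dd_sq_ne_four ha), mul_inv_eq_iff_eq_mul, mul_inv_eq_iff_eq_mul, dd_inv]
  constructor
  · rintro (h | h)
    · left
      have e01 := congrArg (fun m : SL(2, F) => m 0 1) h
      have e10 := congrArg (fun m : SL(2, F) => m 1 0) h
      simp only [mul01, mul10, dd00, dd01, dd10, dd11] at e01 e10
      exact ⟨(mul_eq_zero.1 (show g 0 1 * ((a : F) - ((a⁻¹ : Fˣ) : F)) = 0 by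
          linear_combination -e01)).resolve_right hne,
        (mul_eq_zero.1 (show g 1 0 * ((a : F) - ((a⁻¹ : Fˣ) : F)) = 0 by
          linear_combination e10)).resolve_right hne⟩
    · right
      have e00 := congrArg (fun m : SL(2, F) => m 0 0) h
      have e11 := congrArg (fun m : SL(2, F) => m 1 1) h
      simp only [mul00, mul11, dd00, dd01, dd10, dd11, inv_inv] at e00 e11
      exact ⟨(mul_eq_zero.1 (show g 0 0 * ((a : F) - ((a⁻¹ : Fˣ) : F)) = 0 by
          linear_combination e00)).resolve_right hne,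
        (mul_eq_zero.1 (show g 1 1 * ((a : F) - ((a⁻¹ : Fˣ) : F)) = 0 by
          linear_combination -e11)).resolve_right hne⟩
  · rintro (⟨h1, h2⟩ | ⟨h1, h2⟩)
    · left
      apply ext2 <;> simp [mul00, mul01, mul10, mul11, h1, h2, mul_comm]
    · right
      apply ext2 <;> simp [mul00, mul01, mul10, mul11, h1, h2, mul_comm]

theorem borel_conj_dd {a : Fˣ} (ha : (a : F) ^ 2 ≠ 1) {k g : SL(2, F)}
    (h1 : k * dd a * k⁻¹ ∈ borel F) (h2 : k * g * k⁻¹ ∈ borel F) : g 1 0 = 0 ∨ g 0 1 = 0 := by
  have hne : (a : F) - ((a⁻¹ : Fˣ) : F) ≠ 0 := by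
    intro h
    apply ha
    have := a.mul_inv
    linear_combination (a : F) * h + this
  rw [mem_borel] at h1 h2
  simp only [mul10, mul11, inv00, inv10, dd00, dd01, dd10, dd11] at h1 h2
  have hk : k 1 0 * k 1 1 = 0 :=
    (mul_eq_zero.1 (show k 1 0 * k 1 1 * ((a : F) - ((a⁻¹ : Fˣ) : F)) = 0 by
      linear_combination h1)).resolve_right hne
  have hd := det_eq k
  rcases mul_eq_zero.1 hk with h | h
  · left
    rw [h] at h2 hd
    have hk11 : k 1 1 ≠ 0 := fun e => by rw [e] at hd; simp at hd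
    exact (mul_eq_zero.1 (show g 1 0 * (k 1 1) ^ 2 = 0 by linear_combination h2)).resolve_right
      (pow_ne_zero 2 hk11)
  · right
    rw [h] at h2 hd
    have hk10 : k 1 0 ≠ 0 := fun e => by rw [e] at hd; simp at hd
    exact (mul_eq_zero.1 (show g 0 1 * (k 1 0) ^ 2 = 0 by linear_combination -h2)).resolve_right
      (pow_ne_zero 2 hk10)

theorem borel_conj_uu {s : F} (hs : s ≠ 0) {k g : SL(2, F)}
    (h1 : k * uu s * k⁻¹ ∈ borel F) (h2 : k * g * k⁻¹ ∈ borel F) : g 1 0 = 0 := by
  rw [mem_borel] at h1 h2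
  simp only [mul10, mul11, inv00, inv10, uu00, uu01, uu10, uu11] at h1 h2
  have hk : k 1 0 = 0 := sq_eq_zero_iff.1
    ((mul_eq_zero.1 (show s * (k 1 0) ^ 2 = 0 by linear_combination -h1)).resolve_left hs)
  have hd := det_eq k
  rw [hk] at h2 hd
  have hk11 : k 1 1 ≠ 0 := fun e => by rw [e] at hd; simp at hd
  exact (mul_eq_zero.1 (show g 1 0 * (k 1 1) ^ 2 = 0 by linear_combination h2)).resolve_right
    (pow_ne_zero 2 hk11)

theorem conj_mk_mem_borel {k g : SL(2, F)} :
    mk k * mk g * (mk k)⁻¹ ∈ (borel F).map mk ↔ k * g * k⁻¹ ∈ borel F := by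
  rw [← map_inv, ← map_mul, ← map_mul,
    mk_mem_map_iff (fun z hz => mem_borel.2 (mem_center_iff_entries.1 hz).2.1)]

theorem mk_mem_normalizer {h g : SL(2, F)} :
    mk g ∈ (Subgroup.normalizer (cent h : Set SL(2, F))).map mk ↔
      g ∈ Subgroup.normalizer (cent h : Set SL(2, F)) :=
  mk_mem_map_iff ((center_le_cent h).trans (cent_le_normalizer h))

theorem rel_of_normalizer {h g u : SL(2, F)} (h4 : tr h ^ 2 ≠ 4)
    (hu : u ∈ Subgroup.normalizer (cent h : Set SL(2, F)))
    (hg : g ∈ Subgroup.normalizer (cent h : Set SL(2, F))) : Rel (mk u) (mk g) := by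
  obtain ⟨e⟩ := dihedral_normalizer h4 rfl
  haveI : NeZero (Nat.card ((cent h).map mk)) := ⟨Nat.card_pos.ne'⟩
  haveI := isSolvable_dihedral (Nat.card ((cent h).map mk))
  exact rel_of_mem (solvable_of_solvable_injective (f := e.toMonoidHom) e.injective)
    (mk_mem_normalizer.2 hu) (mk_mem_normalizer.2 hg)

/-- A semisimple element of order at least three in a torus normaliser determines the torus. -/
theorem cent_eq_of_mem_normalizer {h g : SL(2, F)} (h4 : tr h ^ 2 ≠ 4)
    (hg : g ∈ Subgroup.normalizer (cent h : Set SL(2, F))) (ho : 3 ≤ orderOf (mk g)) :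
    cent g = cent h := by
  have hgc : g ∉ Subgroup.center SL(2, F) := fun hz => by
    rw [mk_eq_one.2 (mem_center_iff_pm.1 hz), orderOf_one] at ho; omega
  by_cases hc : g ∈ cent h
  · exact cent_eq_cent (not_mem_center_of_tr h4) hgc (mem_cent.1 hc)
  · exfalso
    have hsq := sq_eq_neg_one_of_inverting h4
      (inverting_of_mem_normalizer h4 hg hc h (mem_cent.2 (Commute.refl h)))
    have h1 : mk g ^ 2 = 1 := by rw [pow_two, ← map_mul, hsq, mk_neg_one]
    have := Nat.le_of_dvd two_pos (orderOf_dvd_of_pow_eq_one h1)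
    omega

/-- Solubilizer of a split semisimple element. -/
theorem sol_split {a : Fˣ} (ha : (a : F) ^ 2 ≠ 1) (ho : 3 ≤ orderOf (mk (dd a)))
    (hW : (2 : F) = 0 ∨ ¬ orderOf (mk (dd a)) ∣ 24) :
    Nat.gcd 2 (Fintype.card F - 1) * Nat.card {y // Rel (mk (dd a)) y} =
      2 * Fintype.card F * (Fintype.card F - 1) := by
  rw [gcd_mul_card_sol _ (fun g => g 1 0 = 0 ∨ (g 0 1 = 0 ∨ g 0 0 = 0 ∧ g 1 1 = 0))]
  · rw [card_or, card_borel_pred]
    have e : {g : SL(2, F) // (g 0 1 = 0 ∨ g 0 0 = 0 ∧ g 1 1 = 0) ∧ ¬ g 1 0 = 0} ≃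
        (Fˣ × Fˣ) ⊕ Fˣ := by
      classical
      exact
      { toFun := fun g =>
          if h : g.1 0 1 = 0 then
            Sum.inl (Units.mk0 (g.1 0 0) (fun e => by
              have hd := det_eq g.1; rw [h, e] at hd; simp at hd), Units.mk0 (g.1 1 0) g.2.2)
          else Sum.inr (Units.mk0 (g.1 0 1) h)
        invFun := fun z => match z with
          | Sum.inl p => ⟨⟨!![(p.1 : F), 0; (p.2 : F), ((p.1⁻¹ : Fˣ) : F)], by simp⟩,
              Or.inl rfl, p.2.ne_zero⟩
          | Sum.inr b => ⟨⟨!![0, (b : F); -((b⁻¹ : Fˣ) : F), 0], by simp⟩,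
              Or.inr ⟨rfl, rfl⟩, neg_ne_zero.2 (b⁻¹).ne_zero⟩
        left_inv := fun g => by
          by_cases h : g.1 0 1 = 0
          · simp only [dif_pos h]
            have hd := det_eq g.1
            rw [h, zero_mul, sub_zero] at hd
            refine Subtype.ext (ext2 ?_ ?_ ?_ ?_) <;> simp [h]
            exact (eq_inv_of_mul_eq_one_right hd).symm
          · simp only [dif_neg h]
            obtain ⟨h0, h1⟩ := g.2.1.resolve_left h
            have hd := det_eq g.1
            rw [h0, zero_mul, zero_sub] at hd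
            refine Subtype.ext (ext2 ?_ ?_ ?_ ?_) <;> simp [h0, h1]
            field_simp
            linear_combination hd
        right_inv := fun z => by
          rcases z with ⟨p, r⟩ | b
          · simp only [dif_pos (show (!![(p : F), 0; (r : F), ((p⁻¹ : Fˣ) : F)] : Matrix (Fin 2) (Fin 2) F) 0 1 = 0 from rfl)]
            congr 1
            exact Prod.ext (Units.ext rfl) (Units.ext rfl)
          · simp only [dif_neg (show ¬ (!![0, (b : F); -((b⁻¹ : Fˣ) : F), 0] : Matrix (Fin 2) (Fin 2) F) 0 1 = 0 from b.ne_zero)]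
            congr 1
            exact Units.ext rfl }
    rw [Nat.card_congr e, Nat.card_sum, Nat.card_prod, Nat.card_units, Nat.card_eq_fintype_card]
    have := one_lt_q (F := F)
    obtain ⟨q, hq⟩ : ∃ q, Fintype.card F = q + 1 := ⟨Fintype.card F - 1, by omega⟩
    rw [hq, Nat.add_sub_cancel]
    ring
  · intro g
    have hddB : dd a ∈ borel F := mem_borel.2 (dd10 a)
    constructor
    · intro h
      rcases rel_cases (fun e => by rw [e, orderOf_one] at ho; omega) h with
        ⟨k, h1, h2⟩ | ⟨u, hu, h1, h2⟩ | ⟨h2, h1, -⟩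
      · exact (borel_conj_dd ha (conj_mk_mem_borel.1 h1) (conj_mk_mem_borel.1 h2)).imp_right Or.inl
      · have hc := cent_eq_of_mem_normalizer hu (mk_mem_normalizer.1 h1) ho
        rw [mk_mem_normalizer, ← hc, mem_normalizer_dd ha] at h2
        rcases h2 with ⟨e, -⟩ | e
        · exact Or.inr (Or.inl e)
        · exact Or.inr (Or.inr e)
      · exact absurd (orderOf_dvd_of_pow_eq_one h1) (hW.resolve_left h2)
    · rintro (h | h | h)
      · exact rel_of_mem isSolvable_borel_map (Subgroup.mem_map_of_mem mk hddB)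
          (Subgroup.mem_map_of_mem mk (mem_borel.2 h))
      · have hr : Rel (mk (ww * dd a * ww⁻¹)) (mk (ww * g * ww⁻¹)) :=
          rel_of_mem isSolvable_borel_map
            (Subgroup.mem_map_of_mem mk (by rw [ww_conj_dd]; exact mem_borel.2 (dd10 _)))
            (Subgroup.mem_map_of_mem mk (mem_borel.2 (by
              simp [mul10, mul11, inv00, inv10, h])))
        have := hr.map (MulAut.conj (mk (ww : SL(2, F)))).symm.toMonoidHom
        simpa [mul_assoc] using this
      · exact rel_of_normalizer (tr_dd_sq_ne_four ha) (cent_le_normalizer _ (mem_cent.2 (Commute.refl _)))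
          ((mem_normalizer_dd ha).2 (Or.inr h))

/-- Solubilizer of an elliptic element. -/
theorem sol_elliptic {g₀ : SL(2, F)} (hg₀ : IsEll (tr g₀)) (ho : 3 ≤ orderOf (mk g₀))
    (hW : (2 : F) = 0 ∨ ¬ orderOf (mk g₀) ∣ 24) :
    Nat.gcd 2 (Fintype.card F - 1) * Nat.card {y // Rel (mk g₀) y} = 2 * (Fintype.card F + 1) := by
  rw [gcd_mul_card_sol _ (fun g => g ∈ Subgroup.normalizer (cent g₀ : Set SL(2, F)))]
  · rw [show Nat.card {g // g ∈ Subgroup.normalizer (cent g₀ : Set SL(2, F))} =
      Nat.card (Subgroup.normalizer (cent g₀ : Set SL(2, F))) from rfl,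
      card_normalizer_cent hg₀.sq_ne_four, hg₀.card_cent]
  · intro g
    constructor
    · intro h
      rcases rel_cases (fun e => by rw [e, orderOf_one] at ho; omega) h with
        ⟨k, h1, -⟩ | ⟨u, hu, h1, h2⟩ | ⟨h2, h1, -⟩
      · exfalso
        have hb := conj_mk_mem_borel.1 h1
        have ht : tr (k * g₀ * k⁻¹) = tr g₀ := tr_conj k g₀
        have hd := det_eq (k * g₀ * k⁻¹)
        rw [mem_borel.1 hb] at hd
        rw [tr_def] at ht
        exact hg₀ ((k * g₀ * k⁻¹) 0 0) (by linear_combination ((k * g₀ * k⁻¹) 0 0) * ht - hd)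
      · have hc := cent_eq_of_mem_normalizer hu (mk_mem_normalizer.1 h1) ho
        rw [hc]
        exact mk_mem_normalizer.1 h2
      · exact absurd (orderOf_dvd_of_pow_eq_one h1) (hW.resolve_left h2)
    · exact fun h => rel_of_normalizer hg₀.sq_ne_four
        (cent_le_normalizer _ (mem_cent.2 (Commute.refl _))) h

/-- Split or elliptic, from the order. -/
theorem sol_semisimple (p : ℕ) [Fact p.Prime] [CharP F p] {x : PSL(2, F)}
    (ho : 3 ≤ orderOf x) (hW : (2 : F) = 0 ∨ ¬ orderOf x ∣ 24) :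
    (orderOf x ∣ Fintype.card F - 1 →
      Nat.gcd 2 (Fintype.card F - 1) * Nat.card {y // Rel x y} =
        2 * Fintype.card F * (Fintype.card F - 1)) ∧
    (orderOf x ∣ Fintype.card F + 1 →
      Nat.gcd 2 (Fintype.card F - 1) * Nat.card {y // Rel x y} = 2 * (Fintype.card F + 1)) := by
  classical
  have hx : x ≠ 1 := fun e => by rw [e, orderOf_one] at ho; omega
  have hboth : orderOf x ∣ Fintype.card F - 1 → orderOf x ∣ Fintype.card F + 1 → False := by
    intro h1 h2
    have hq := one_lt_q (F := F)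
    have := Nat.dvd_sub h2 h1
    rw [show Fintype.card F + 1 - (Fintype.card F - 1) = 2 by omega] at this
    have := Nat.le_of_dvd two_pos this
    omega
  obtain ⟨g, rfl⟩ := mk_surjective x
  rcases trichotomy (mk_ne_one_iff.1 hx) with ⟨k, a, ha, rfl⟩ | ⟨k, s, hs, hg⟩ | ht
  · have hord : orderOf (mk (k * dd a * k⁻¹)) = orderOf (mk (dd a)) := orderOf_mk_conj k _
    have hsol := sol_split ha (hord ▸ ho) (hord ▸ hW)
    have hcard : Nat.card {y // Rel (mk (k * dd a * k⁻¹)) y} = Nat.card {y // Rel (mk (dd a)) y} := by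
      rw [← card_rel_map (MulAut.conj (mk k)) (mk (dd a))]
      simp
    have hd : orderOf (mk (k * dd a * k⁻¹)) ∣ Fintype.card F - 1 := by
      rw [hord]
      refine (orderOf_map_dvd mk (dd a)).trans ?_
      rw [orderOf_dd, ← Fintype.card_units]
      exact orderOf_dvd_card
    exact ⟨fun _ => hcard ▸ hsol, fun h => (hboth hd h).elim⟩
  · have hp : orderOf (mk g) = p := by
      rcases hg with rfl | rfl
      · rw [orderOf_mk_conj, orderOf_mk_uu p hs]
      · rw [mk_neg, orderOf_mk_conj, orderOf_mk_uu p hs]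
    have hpq : p ∣ Fintype.card F := p_dvd_q p
    have hpp : p.Prime := Fact.out
    refine ⟨fun h => ?_, fun h => ?_⟩ <;> rw [hp] at h
    · have := Nat.dvd_sub hpq h
      have hq := one_lt_q (F := F)
      rw [show Fintype.card F - (Fintype.card F - 1) = 1 by omega] at this
      exact absurd this hpp.not_dvd_one
    · exact absurd ((Nat.dvd_add_right hpq).1 h) hpp.not_dvd_one
  · have hd : orderOf (mk g) ∣ Fintype.card F + 1 := by
      refine (orderOf_map_dvd mk g).trans ?_
      rw [← ht.card_cent, ← Subgroup.orderOf_mk g (mem_cent.2 (Commute.refl g))]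
      exact orderOf_dvd_natCard _
    exact ⟨fun h => (hboth h hd).elim, fun _ => sol_elliptic ht ho hW⟩

/-- An involution and an element in a torus normaliser, the involution outside the torus. -/
theorem tr_zero_of_pair {h u g : SL(2, F)} (h4 : tr h ^ 2 ≠ 4)
    (hu : u ∈ Subgroup.normalizer (cent h : Set SL(2, F))) (hu' : u ∉ cent h)
    (hg : g ∈ Subgroup.normalizer (cent h : Set SL(2, F))) : tr g = 0 ∨ tr (u * g) = 0 := by
  have hself := mem_cent.2 (Commute.refl h)
  by_cases hc : g ∈ cent h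
  · right
    rw [← sq_eq_neg_one_iff]
    have hsq := sq_eq_neg_one_of_inverting h4 (inverting_of_mem_normalizer h4 hu hu' h hself)
    have hi := inverting_of_mem_normalizer h4 hu hu' g hc
    rw [show u * g * (u * g) = u * g * u⁻¹ * (u * u) * g by group, hi, hsq, mul_neg, mul_one, neg_mul,
      inv_mul_cancel]
  · exact Or.inl (sq_eq_neg_one_iff.1
      (sq_eq_neg_one_of_inverting h4 (inverting_of_mem_normalizer h4 hg hc h hself)))

theorem mk_sq_of_tr {g : SL(2, F)} (h : tr g = 0) : mk g * mk g = 1 := by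
  rw [← map_mul, sq_eq_neg_one_of_tr_eq_zero h, mk_neg_one]

theorem mk_cube_of_tr {g : SL(2, F)} (h : tr g ^ 2 = 1) : mk g * mk g * mk g = 1 := by
  rcases mul_eq_zero.1 (show (tr g - 1) * (tr g + 1) = 0 by linear_combination h) with h' | h'
  · rw [← map_mul, ← map_mul, cube_eq_neg_one_of_tr_eq_one (sub_eq_zero.1 h'), mk_neg_one]
  · rw [← mk_neg g, ← map_mul, ← map_mul, cube_eq_neg_one_of_tr_eq_one (by
      rw [tr_neg, eq_neg_of_add_eq_zero_left h', neg_neg]), mk_neg_one]

theorem rel_involution_left {x y : PSL(2, F)} (hx : x * x = 1) (hxy : x * y * (x * y) = 1) :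
    Rel x y := by
  have h : Rel x (x * y) := rel_involutions hx hxy
  haveI : Group.IsSolvable (Subgroup.closure ({x, x * y} : Set PSL(2, F))) := h
  refine rel_of_mem h (Subgroup.subset_closure (Or.inl rfl)) ?_
  have := Subgroup.mul_mem _ (Subgroup.subset_closure (Or.inl rfl) : x ∈ Subgroup.closure ({x, x * y} : Set PSL(2, F)))
    (Subgroup.subset_closure (Or.inr rfl) : x * y ∈ Subgroup.closure ({x, x * y} : Set PSL(2, F)))
  rwa [← mul_assoc, hx, one_mul] at this

/-- Solubilizer of a transvection, `q` even. -/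
theorem sol_uu_even (h2 : (2 : F) = 0) {s : F} (hs : s ≠ 0) :
    Nat.card {y // Rel (mk (uu s)) y} = 3 * Fintype.card F * (Fintype.card F - 1) := by
  have hgcd : Nat.gcd 2 (Fintype.card F - 1) = 1 := by
    refine Nat.Coprime.gcd_eq_one ((Nat.prime_two.coprime_iff_not_dvd).2 ?_)
    have := one_lt_q (F := F)
    obtain ⟨j, hj⟩ := even_card_iff.2 h2
    omega
  have h := gcd_mul_card_sol (mk (uu s))
    (fun g => g 1 0 = 0 ∨ (tr g = 0 ∨ tr g + s * g 1 0 = 0)) ?_
  · rw [hgcd, one_mul, card_or, card_borel_pred] at h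
    rw [h]
    have e1 : Nat.card {g : SL(2, F) // (tr g = 0 ∨ tr g + s * g 1 0 = 0) ∧ ¬ g 1 0 = 0} =
        Nat.card {g : SL(2, F) // g 1 0 ≠ 0 ∧ (fun σ c => σ = 0 ∨ σ + s * c = 0) (tr g) (g 1 0)} :=
      Nat.card_congr (Equiv.subtypeEquivRight fun g => and_comm)
    rw [e1, card_lifts (fun σ c => σ = 0 ∨ σ + s * c = 0)]
    have e2 : {p : F × F // p.2 ≠ 0 ∧ (p.1 = 0 ∨ p.1 + s * p.2 = 0)} ≃ Fˣ ⊕ Fˣ := by
      classical
      exact
      { toFun := fun p => if p.1.1 = 0 then Sum.inl (Units.mk0 p.1.2 p.2.1)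
          else Sum.inr (Units.mk0 p.1.2 p.2.1)
        invFun := fun z => match z with
          | Sum.inl c => ⟨(0, c), c.ne_zero, Or.inl rfl⟩
          | Sum.inr c => ⟨(-(s * c), c), c.ne_zero, Or.inr (neg_add_cancel _)⟩
        left_inv := fun p => by
          by_cases h : p.1.1 = 0
          · simp only [if_pos h]; exact Subtype.ext (Prod.ext h.symm rfl)
          · simp only [if_neg h]
            exact Subtype.ext (Prod.ext (eq_neg_of_add_eq_zero_left (p.2.2.resolve_left h)).symm rfl)
        right_inv := fun z => by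
          rcases z with c | c
          · simp
          · simp [hs, c.ne_zero] }
    rw [Nat.card_congr e2, Nat.card_sum, Nat.card_units, Nat.card_eq_fintype_card]
    ring
  · intro g
    have hux : (uu s * g) 0 0 + (uu s * g) 1 1 = tr g + s * g 1 0 := by
      simp only [mul00, mul11, uu00, uu01, uu10, uu11, tr_def]; ring
    have htu : tr (uu s) = 0 := by rw [tr_uu]; exact h2
    constructor
    · intro h
      rcases rel_cases (mk_uu_ne_one hs) h with ⟨k, h1, h2'⟩ | ⟨u, hu, h1, h2'⟩ | ⟨h2', -⟩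
      · exact Or.inl (borel_conj_uu hs (conj_mk_mem_borel.1 h1) (conj_mk_mem_borel.1 h2'))
      · refine Or.inr ?_
        rw [← hux, ← tr_def]
        refine tr_zero_of_pair hu (mk_mem_normalizer.1 h1) (fun hc => ?_) (mk_mem_normalizer.1 h2')
        refine tr_sq_ne_four_of_commute hu (uu_not_mem_center hs) (mem_cent.1 hc) ?_
        rw [tr_uu]; norm_num
      · exact absurd h2 h2'
    · rintro (h | h | h)
      · exact rel_of_mem isSolvable_borel_map (Subgroup.mem_map_of_mem mk (mem_borel.2 (uu10 s)))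
          (Subgroup.mem_map_of_mem mk (mem_borel.2 h))
      · exact rel_involutions (mk_sq_of_tr htu) (mk_sq_of_tr h)
      · exact rel_involution_left (mk_sq_of_tr htu)
          (by rw [← map_mul]; exact mk_sq_of_tr (by rw [tr_def, hux, h]))

section CharThree

variable [CharP F 3]

theorem three_eq_zero : (3 : F) = 0 := by exact_mod_cast CharP.cast_eq_zero F 3

theorem two_ne_zero' : (2 : F) ≠ 0 := fun h =>
  one_ne_zero (show (1 : F) = 0 by linear_combination (three_eq_zero (F := F)) - h)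

/-- In `PSL(2, 3^p)` an element of order dividing 24 has trace in the prime field. -/
theorem tr_cube_of_pow (h8 : Fintype.card F % 8 = 3) (h3 : 3 ∣ Fintype.card F) {g : SL(2, F)}
    (hg : mk g ^ 24 = 1) : tr g ^ 3 = tr g := by
  have : Fact (Nat.Prime 3) := ⟨Nat.prime_three⟩
  have h3' := three_eq_zero (F := F)
  have hd := orderOf_dvd_of_pow_eq_one hg
  have hgcd : Nat.gcd 2 (Fintype.card F - 1) = 2 := Nat.gcd_eq_left (by omega)
  have hcases : orderOf (mk g) = 1 ∨ orderOf (mk g) = 2 ∨ orderOf (mk g) = 3 := by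
    have ho := psl_orderOf_dvd 3 (mk g)
    rw [hgcd] at ho
    have := Nat.le_of_dvd (by norm_num) hd
    have := orderOf_pos (mk g)
    have : orderOf (mk g) ∈ Nat.divisors 24 := Nat.mem_divisors.2 ⟨hd, by norm_num⟩
    rw [show Nat.divisors 24 = {1, 2, 3, 4, 6, 8, 12, 24} by decide] at this
    simp only [Finset.mem_insert, Finset.mem_singleton] at this
    rcases this with e | e | e | e | e | e | e | e <;> rw [e] at ho ⊢ <;> omega
  rcases hcases with h | h | h
  · rcases mk_eq_one.1 (orderOf_eq_one_iff.1 h) with rfl | rfl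
    · rw [tr_one]; linear_combination 2 * h3'
    · rw [tr_neg, tr_one]; linear_combination -(2 * h3')
  · obtain ⟨g', e, ht, -⟩ := exists_tr_eq_zero h
    rcases mk_eq_mk.1 e with rfl | rfl
    · rw [ht]; ring
    · rw [tr_neg] at ht; rw [neg_eq_zero.1 ht]; ring
  · have h1 : mk g ≠ 1 := fun e => by rw [e, orderOf_one] at h; omega
    rcases psl_cases h1 with ⟨g', e, h4⟩ | ⟨k, s, hs, e⟩
    · exfalso
      have hdt := Subgroup.orderOf_dvd_natCard _
        (Subgroup.mem_map_of_mem mk (mem_cent.2 (Commute.refl g')))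
      rw [e, h] at hdt
      rcases Maximal.card_torus_psl h4 with e' | e' <;> rw [hgcd] at e' <;> rw [e'] at hdt <;> omega
    · rcases mk_eq_mk.1 e with rfl | rfl
      · rw [tr_conj, tr_uu]; linear_combination 2 * h3'
      · rw [tr_neg, tr_conj, tr_uu]; linear_combination -(2 * h3')

theorem card_cube_fix : Nat.card {σ : F // σ ^ 3 = σ} = 3 := by
  classical
  have h2 := two_ne_zero' (F := F)
  rw [Nat.card_eq_fintype_card, Fintype.card_subtype,
    show (Finset.univ.filter fun σ : F => σ ^ 3 = σ) = {0, 1, -1} from ?_]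
  · have h11 : (1 : F) ≠ -1 := fun h => h2 (by linear_combination h)
    simp [h11]
  · ext σ
    simp only [Finset.mem_filter, Finset.mem_univ, true_and, Finset.mem_insert, Finset.mem_singleton]
    refine ⟨fun h => ?_, ?_⟩
    · rcases mul_eq_zero.1 (show σ * ((σ - 1) * (σ + 1)) = 0 by linear_combination h) with h' | h'
      · exact Or.inl h'
      · rcases mul_eq_zero.1 h' with h'' | h''
        · exact Or.inr (Or.inl (sub_eq_zero.1 h''))
        · exact Or.inr (Or.inr (eq_neg_of_add_eq_zero_left h''))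
    · rintro (rfl | rfl | rfl) <;> ring

omit [Fintype F] in
theorem sq_eq_one_iff_pm {x : F} : x ^ 2 = 1 ↔ x = 1 ∨ x = -1 := by
  rw [← one_pow 2, sq_eq_sq_iff_eq_or_eq_neg, one_pow]

theorem card_sq_eq_one {s : F} (hs : s ≠ 0) : Nat.card {c : F // (s * c) ^ 2 = 1} = 2 := by
  classical
  have h2 := two_ne_zero' (F := F)
  rw [Nat.card_eq_fintype_card, Fintype.card_subtype,
    show (Finset.univ.filter fun c : F => (s * c) ^ 2 = 1) = {s⁻¹, -s⁻¹} from ?_]
  · refine Finset.card_pair fun h => h2 ?_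
    have : s * s⁻¹ = 1 := mul_inv_cancel₀ hs
    linear_combination s * h - 2 * this
  · ext c
    simp only [Finset.mem_filter, Finset.mem_univ, true_and, Finset.mem_insert, Finset.mem_singleton]
    rw [sq_eq_one_iff_pm]
    constructor
    · rintro (h | h)
      · exact Or.inl (eq_inv_of_mul_eq_one_right h)
      · right
        rw [← neg_eq_iff_eq_neg]
        exact eq_inv_of_mul_eq_one_right (by rw [mul_neg, h, neg_neg])
    · rintro (rfl | rfl) <;> simp [hs]

theorem rel_order_three {x y : PSL(2, F)} (hx : x * x * x = 1) (hy : y * y * y = 1)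
    (hxy : x * y * (x * y) = 1) : Rel x y := by
  have hxi : x⁻¹ * x⁻¹ * x⁻¹ = 1 := by
    rw [show x⁻¹ * x⁻¹ * x⁻¹ = (x * x * x)⁻¹ by group, hx, inv_one]
  have h3 : x * y * x⁻¹ * (x * y * x⁻¹) * (x * y * x⁻¹) = 1 := by
    rw [show x * y * x⁻¹ * (x * y * x⁻¹) * (x * y * x⁻¹) = x * (y * y * y) * x⁻¹ by group, hy, mul_one,
      mul_inv_cancel]
  have h : Rel (x * y) x⁻¹ := rel_tetrahedral hxy hxi h3
  have e1 : x⁻¹ ∈ Subgroup.closure ({x * y, x⁻¹} : Set PSL(2, F)) := Subgroup.subset_closure (Or.inr rfl)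
  have e2 : x * y ∈ Subgroup.closure ({x * y, x⁻¹} : Set PSL(2, F)) := Subgroup.subset_closure (Or.inl rfl)
  have hxm : x ∈ Subgroup.closure ({x * y, x⁻¹} : Set PSL(2, F)) := by simpa using Subgroup.inv_mem _ e1
  refine rel_of_mem h hxm ?_
  have := Subgroup.mul_mem _ e1 e2
  rwa [inv_mul_cancel_left] at this

/-- Solubilizer of an element of order three, `q = 3^p`. -/
theorem sol_uu_three (h8 : Fintype.card F % 8 = 3) (h3 : 3 ∣ Fintype.card F) {s : F} (hs : s ≠ 0) :
    2 * Nat.card {y // Rel (mk (uu s)) y} = Fintype.card F * (Fintype.card F + 5) := by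
  have h3' := three_eq_zero (F := F)
  have h2 := two_ne_zero' (F := F)
  have hgcd : Nat.gcd 2 (Fintype.card F - 1) = 2 := Nat.gcd_eq_left (by omega)
  have h := gcd_mul_card_sol (mk (uu s))
    (fun g => g 1 0 = 0 ∨ ((s * g 1 0) ^ 2 = 1 ∧ tr g ^ 3 = tr g)) ?_
  · rw [hgcd, card_or, card_borel_pred] at h
    rw [h]
    have e1 : Nat.card {g : SL(2, F) // ((s * g 1 0) ^ 2 = 1 ∧ tr g ^ 3 = tr g) ∧ ¬ g 1 0 = 0} =
        Nat.card {g : SL(2, F) // g 1 0 ≠ 0 ∧
          (fun σ c => (s * c) ^ 2 = 1 ∧ σ ^ 3 = σ) (tr g) (g 1 0)} :=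
      Nat.card_congr (Equiv.subtypeEquivRight fun g => and_comm)
    rw [e1, card_lifts (fun σ c => (s * c) ^ 2 = 1 ∧ σ ^ 3 = σ)]
    have e2 : {p : F × F // p.2 ≠ 0 ∧ ((s * p.2) ^ 2 = 1 ∧ p.1 ^ 3 = p.1)} ≃
        {σ : F // σ ^ 3 = σ} × {c : F // (s * c) ^ 2 = 1} :=
    { toFun := fun p => (⟨p.1.1, p.2.2.2⟩, ⟨p.1.2, p.2.2.1⟩)
      invFun := fun z => ⟨(z.1.1, z.2.1), fun e => by
        have := z.2.2; rw [show z.2.1 = 0 from e] at this; simp at this, z.2.2, z.1.2⟩
      left_inv := fun p => rfl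
      right_inv := fun z => rfl }
    rw [Nat.card_congr e2, Nat.card_prod, card_cube_fix, card_sq_eq_one hs]
    have := one_lt_q (F := F)
    obtain ⟨q, hq⟩ : ∃ q, Fintype.card F = q + 1 := ⟨Fintype.card F - 1, by omega⟩
    rw [hq, Nat.add_sub_cancel]
    ring
  · intro g
    have hux : tr (uu s * g) = tr g + s * g 1 0 := by
      simp only [mul00, mul11, uu00, uu01, uu10, uu11, tr_def]; ring
    have hux' : tr ((uu s)⁻¹ * g) = tr g - s * g 1 0 := by
      rw [uu_inv]; simp only [mul00, mul11, uu00, uu01, uu10, uu11, tr_def]; ring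
    have hu3 : mk (uu s) * mk (uu s) * mk (uu s) = 1 := mk_cube_of_tr (by
      rw [tr_uu]; linear_combination h3')
    constructor
    · intro h
      rcases rel_cases (mk_uu_ne_one hs) h with ⟨k, h1, h2'⟩ | ⟨u, hu, h1, -⟩ | ⟨-, -, hy, hxy⟩
      · exact Or.inl (borel_conj_uu hs (conj_mk_mem_borel.1 h1) (conj_mk_mem_borel.1 h2'))
      · exfalso
        have hn := mk_mem_normalizer.1 h1
        by_cases hc : uu s ∈ cent u
        · exact tr_sq_ne_four_of_commute hu (uu_not_mem_center hs) (mem_cent.1 hc)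
            (by rw [tr_uu]; norm_num)
        · have := sq_eq_neg_one_of_inverting hu
            (inverting_of_mem_normalizer hu hn hc u (mem_cent.2 (Commute.refl u)))
          rw [sq_eq_neg_one_iff, tr_uu] at this
          exact h2 this
      · rw [← map_mul] at hxy
        have hy' := tr_cube_of_pow h8 h3 hy
        have hxy' := tr_cube_of_pow h8 h3 hxy
        rw [hux] at hxy'
        by_cases hc : g 1 0 = 0
        · exact Or.inl hc
        · refine Or.inr ⟨?_, hy'⟩
          have hsc : s * g 1 0 * ((s * g 1 0) ^ 2 - 1) = 0 := by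
            linear_combination hxy' - hy' - (tr g ^ 2 * (s * g 1 0) + tr g * (s * g 1 0) ^ 2) * h3'
          exact sub_eq_zero.1 ((mul_eq_zero.1 hsc).resolve_left (mul_ne_zero hs hc))
    · rintro (h | ⟨hc, hσ⟩)
      · exact rel_of_mem isSolvable_borel_map (Subgroup.mem_map_of_mem mk (mem_borel.2 (uu10 s)))
          (Subgroup.mem_map_of_mem mk (mem_borel.2 h))
      · rcases mul_eq_zero.1 (show tr g * (tr g ^ 2 - 1) = 0 by linear_combination hσ) with h0 | h0
        · have hg2 := mk_sq_of_tr h0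
          refine (rel_tetrahedral hg2 hu3 ?_).symm
          rw [← map_mul]
          exact mk_cube_of_tr (by rw [tr_mul_comm, hux, h0, zero_add, hc])
        · have hg3 := mk_cube_of_tr (sub_eq_zero.1 h0)
          rcases mul_eq_zero.1 (show (tr g - s * g 1 0) * (tr g + s * g 1 0) = 0 by
            linear_combination h0 - hc) with h1 | h1
          · have hr : Rel (mk (uu s))⁻¹ (mk g) := by
              refine rel_order_three ?_ hg3 ?_
              · rw [show (mk (uu s))⁻¹ * (mk (uu s))⁻¹ * (mk (uu s))⁻¹ =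
                  (mk (uu s) * mk (uu s) * mk (uu s))⁻¹ by group, hu3, inv_one]
              · rw [← map_inv, ← map_mul]; exact mk_sq_of_tr (by rw [hux', h1])
            haveI : Group.IsSolvable (Subgroup.closure ({(mk (uu s))⁻¹, mk g} : Set PSL(2, F))) := hr
            refine rel_of_mem hr ?_ (Subgroup.subset_closure (Or.inr rfl))
            have hm : (mk (uu s))⁻¹ ∈ Subgroup.closure ({(mk (uu s))⁻¹, mk g} : Set PSL(2, F)) :=
              Subgroup.subset_closure (Or.inl rfl)
            simpa using Subgroup.inv_mem _ hm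
          · exact rel_order_three hu3 hg3 (by rw [← map_mul]; exact mk_sq_of_tr (by rw [hux, h1]))

omit [CharP F 3] in
theorem tr_ww_mul (g : SL(2, F)) : tr (ww * g) = g 1 0 - g 0 1 := by
  simp only [tr_def, mul00, mul11, ww00, ww01, ww10, ww11]; ring

omit [CharP F 3] in
theorem commute_ww_iff {g : SL(2, F)} : Commute g ww ↔ g ∈ circle F := by
  rw [mem_circle]
  constructor
  · intro h
    have e00 := congrArg (fun m : SL(2, F) => m 0 0) h.eq
    have e01 := congrArg (fun m : SL(2, F) => m 0 1) h.eq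
    simp only [mul00, mul01, ww00, ww01, ww10, ww11] at e00 e01
    exact ⟨by linear_combination e01, by linear_combination -e00⟩
  · rintro ⟨h1, h2⟩
    show g * ww = ww * g
    apply ext2 <;> simp [mul00, mul01, mul10, mul11, h1, h2]

/-- A matrix of determinant one from its entries. -/
def mk4 (a b c d : F) (h : a * d - b * c = 1) : SL(2, F) :=
  ⟨!![a, b; c, d], by rw [Matrix.det_fin_two_of]; exact h⟩

omit [CharP F 3] [Fintype F] in
@[simp] theorem mk4_00 (a b c d : F) (h) : mk4 a b c d h 0 0 = a := rfl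
omit [CharP F 3] [Fintype F] in
@[simp] theorem mk4_01 (a b c d : F) (h) : mk4 a b c d h 0 1 = b := rfl
omit [CharP F 3] [Fintype F] in
@[simp] theorem mk4_10 (a b c d : F) (h) : mk4 a b c d h 1 0 = c := rfl
omit [CharP F 3] [Fintype F] in
@[simp] theorem mk4_11 (a b c d : F) (h) : mk4 a b c d h 1 1 = d := rfl

omit [CharP F 3] in
theorem tr_mk4 (a b c d : F) (h) : tr (mk4 a b c d h) = a + d := by rw [tr_def, mk4_00, mk4_11]

omit [CharP F 3] in
theorem tr_ww_mk4 (a b c d : F) (h) : tr (ww * mk4 a b c d h) = c - b := by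
  rw [tr_ww_mul, mk4_10, mk4_01]

/-- Solubilizer of an involution, `q = 3^p`. -/
theorem sol_ww_three (h8 : Fintype.card F % 8 = 3) (h3 : 3 ∣ Fintype.card F) :
    Nat.card {y // Rel (mk (ww : SL(2, F))) y} = Fintype.card F * (Fintype.card F + 1) := by
  classical
  have h3' := three_eq_zero (F := F)
  have h2 := two_ne_zero' (F := F)
  have hns : ∀ i : F, i * i ≠ -1 := fun i hi =>
    (FiniteField.isSquare_neg_one_iff.1 ⟨i, hi.symm⟩) (by omega)
  have hgcd : Nat.gcd 2 (Fintype.card F - 1) = 2 := Nat.gcd_eq_left (by omega)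
  have hcirc := card_circle_of_not_sq hns h2
  have htw : tr (ww : SL(2, F)) = 0 := by simp [tr_def]
  have hwell : IsEll (tr (ww : SL(2, F))) := fun r hr => hns r (by
    rw [htw] at hr; linear_combination hr)
  have h := gcd_mul_card_sol (mk (ww : SL(2, F)))
    (fun g => tr g = 0 ∨ (tr (ww * g) = 0 ∨ (g ∈ circle F ∨ tr g ^ 2 = 1 ∧ tr (ww * g) ^ 2 = 1))) ?_
  · -- the four pieces
    have c1 : Nat.card {g : SL(2, F) // tr g = 0} = Fintype.card F * (Fintype.card F - 1) := by
      have e : Nat.card {g : SL(2, F) // tr g = 0} =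
          Nat.card {g : SL(2, F) // g 1 0 ≠ 0 ∧ (fun σ _ => σ = 0) (tr g) (g 1 0)} :=
        Nat.card_congr (Equiv.subtypeEquivRight fun g => ⟨fun hσ => ⟨fun hc => by
          have hd := det_eq g
          rw [hc, mul_zero, sub_zero] at hd
          rw [tr_def] at hσ
          exact hns (g 0 0) (by linear_combination -hd + g 0 0 * hσ), hσ⟩, fun h => h.2⟩)
      rw [e, card_lifts (fun σ _ => σ = 0)]
      congr 1
      rw [← Fintype.card_units, ← Nat.card_eq_fintype_card]
      exact Nat.card_congr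
        { toFun := fun p => Units.mk0 p.1.2 p.2.1
          invFun := fun c => ⟨(0, c), c.ne_zero, rfl⟩
          left_inv := fun p => Subtype.ext (Prod.ext p.2.2.symm rfl)
          right_inv := fun c => Units.ext rfl }
    have cA : Nat.card {g : SL(2, F) // tr (ww * g) = 0 ∧ tr g = 0} = Fintype.card F + 1 := by
      obtain ⟨⟨A, B⟩, hAB⟩ := exists_pairNrm_eq (t := (0 : F))
        (by rw [zero_pow two_ne_zero]; exact fun e => h2 (mul_self_eq_zero.1
          (show (2 : F) * 2 = 0 by linear_combination -e))) (-1 : F)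
      simp only [pairNrm] at hAB
      let w : SL(2, F) := ⟨!![A, B; B, -A], by
        rw [Matrix.det_fin_two_of]; linear_combination -hAB⟩
      rw [← hcirc]
      refine (Nat.card_congr ((Equiv.mulLeft w).subtypeEquiv fun g => ?_)).symm
      rw [mem_circle]
      simp only [Equiv.coe_mulLeft, tr_ww_mul]
      simp only [tr_def, mul00, mul01, mul10, mul11]
      show g 0 0 = g 1 1 ∧ g 1 0 = -g 0 1 ↔ B * g 0 0 + -A * g 1 0 - (A * g 0 1 + B * g 1 1) = 0 ∧
        A * g 0 0 + B * g 1 0 + (B * g 0 1 + -A * g 1 1) = 0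
      constructor
      · rintro ⟨e1, e2⟩
        rw [e1, e2]; constructor <;> ring
      · rintro ⟨e1, e2⟩
        have q1 : g 1 0 + g 0 1 = 0 := by linear_combination A * e1 - B * e2 + (g 1 0 + g 0 1) * hAB
        have q2 : g 0 0 - g 1 1 = 0 := by linear_combination -(B * e1) - A * e2 + (g 0 0 - g 1 1) * hAB
        exact ⟨sub_eq_zero.1 q2, eq_neg_of_add_eq_zero_left q1⟩
    have c2 : Nat.card {g : SL(2, F) // tr (ww * g) = 0 ∧ ¬ tr g = 0} + (Fintype.card F + 1) =
        Fintype.card F * (Fintype.card F - 1) := by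
      rw [← cA, ← c1]
      have e : Nat.card {g : SL(2, F) // tr g = 0} = Nat.card {g : SL(2, F) // tr (ww * g) = 0} :=
        (Nat.card_congr ((Equiv.mulLeft (ww : SL(2, F))).subtypeEquiv fun g => Iff.rfl)).symm
      rw [e]
      simp only [Nat.card_eq_fintype_card, Fintype.card_subtype]
      rw [← Finset.card_union_of_disjoint]
      · congr 1
        ext g
        by_cases h0 : tr g = 0 <;> simp [h0]
      · rw [Finset.disjoint_left]
        intro g h1 h2'
        simp only [Finset.mem_filter] at h1 h2'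
        exact h1.2.2 h2'.2.2
    have c3 : Nat.card {g : SL(2, F) //
        (g ∈ circle F ∧ ¬ tr (ww * g) = 0) ∧ ¬ tr g = 0} + 4 = Fintype.card F + 1 := by
      rw [← hcirc]
      have hset : ∀ g : SL(2, F), g ∈ circle F ∧ (tr (ww * g) = 0 ∨ tr g = 0) ↔
          g ∈ ({1, -1, ww, -ww} : Finset SL(2, F)) := by
        intro g
        simp only [Finset.mem_insert, Finset.mem_singleton, tr_ww_mul]
        simp only [tr_def, mem_circle]
        constructor
        · rintro ⟨⟨h1, h2'⟩, hz⟩
          have hd := det_eq g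
          rw [h2', ← h1] at hd
          rcases hz with hz | hz
          · have hb : g 0 1 = 0 := (mul_eq_zero.1 (show 2 * g 0 1 = 0 by
              linear_combination -hz + h2')).resolve_left h2
            rw [hb] at hd h2'
            rcases mul_eq_zero.1 (show (g 0 0 - 1) * (g 0 0 + 1) = 0 by linear_combination hd) with e | e
            · left; apply ext2 <;> simp [sub_eq_zero.1 e, hb, h2', ← h1]
            · right; left; apply ext2 <;> simp [eq_neg_of_add_eq_zero_left e, hb, h2', ← h1]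
          · have ha : g 0 0 = 0 := (mul_eq_zero.1 (show 2 * g 0 0 = 0 by
              linear_combination hz + h1)).resolve_left h2
            rw [ha] at hd h1
            rcases mul_eq_zero.1 (show (g 0 1 - 1) * (g 0 1 + 1) = 0 by linear_combination hd) with e | e
            · right; right; left; apply ext2 <;> simp [sub_eq_zero.1 e, ha, h2', ← h1]
            · right; right; right; apply ext2 <;> simp [eq_neg_of_add_eq_zero_left e, ha, h2', ← h1]
        · rintro (rfl | rfl | rfl | rfl) <;> simp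
      have h4 : ({1, -1, ww, -ww} : Finset SL(2, F)).card = 4 := by
        have a1 : (1 : SL(2, F)) ≠ -1 := (neg_one_ne_one h2).symm
        have a2 : ∀ g h : SL(2, F), g 0 0 ≠ h 0 0 → g ≠ h := fun g h hne e => hne (e ▸ rfl)
        have hne : (1 : F) ≠ 0 := one_ne_zero
        rw [Finset.card_insert_of_notMem, Finset.card_insert_of_notMem, Finset.card_pair]
        · exact fun e => h2 (by
            have := congrArg (fun m : SL(2, F) => m 0 1) e
            simp at this; linear_combination this)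
        · simp only [Finset.mem_insert, Finset.mem_singleton, not_or]
          exact ⟨a2 _ _ (by simp), a2 _ _ (by simp)⟩
        · simp only [Finset.mem_insert, Finset.mem_singleton, not_or]
          exact ⟨a1, a2 _ _ (by simp), a2 _ _ (by simp)⟩
      rw [← h4]
      simp only [Nat.card_eq_fintype_card, Fintype.card_subtype]
      rw [← Finset.card_union_of_disjoint]
      · congr 1
        ext g
        rw [Finset.mem_union, ← hset g]
        simp only [Finset.mem_filter, Finset.mem_univ, true_and]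
        by_cases h0 : tr g = 0 <;> by_cases h1 : tr (ww * g) = 0 <;> simp [h0, h1]
      · rw [Finset.disjoint_left]
        intro g h1 h1'
        obtain ⟨-, hz⟩ := (hset g).2 h1'
        simp only [Finset.mem_filter] at h1
        exact hz.elim h1.2.1.2 h1.2.2
    have c4 : Nat.card {g : SL(2, F) // ((tr g ^ 2 = 1 ∧ tr (ww * g) ^ 2 = 1) ∧ ¬ g ∈ circle F) ∧
        ¬ tr (ww * g) = 0 ∧ ¬ tr g = 0} = 4 * (Fintype.card F + 1) := by
      have hsq : Nat.card {σ : F // σ ^ 2 = 1} = 2 := by
        simpa using card_sq_eq_one (F := F) one_ne_zero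
      rw [show 4 * (Fintype.card F + 1) =
        Nat.card ({σ : F // σ ^ 2 = 1} × {s : F // s ^ 2 = 1} × circle F) by
          rw [Nat.card_prod, Nat.card_prod, hsq, hcirc]; ring]
      have eA : ∀ x σ : F, x - σ + (2 * σ - x) = σ := fun x σ => by ring
      have eB : ∀ x σ : F, x - σ - (x - 2 * σ) = σ := fun x σ => by ring
      refine Nat.card_congr
        { toFun := fun g => (⟨tr g.1, g.2.1.1.1⟩, ⟨tr (ww * g.1), g.2.1.1.2⟩,
            ⟨mkCircle (g.1 0 0 + tr g.1) (g.1 1 0 + tr (ww * g.1)) ?_, mkCircle_mem _ _ _⟩)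
          invFun := fun z => ⟨mk4 ((z.2.2 : SL(2, F)) 0 0 - z.1.1)
              ((z.2.2 : SL(2, F)) 0 1 - 2 * z.2.1.1)
              ((z.2.2 : SL(2, F)) 0 1 - z.2.1.1) (2 * z.1.1 - (z.2.2 : SL(2, F)) 0 0) ?_, ?_⟩
          left_inv := ?_
          right_inv := ?_ }
      · have hd := det_eq g.1
        have e1 := g.2.1.1.1
        have e2 := g.2.1.1.2
        rw [tr_ww_mul] at e2 ⊢
        rw [tr_def] at e1 ⊢
        linear_combination -hd + e1 + e2 + ((g.1 0 0) * (g.1 0 0 + g.1 1 1) +
          (g.1 1 0) * (g.1 1 0 - g.1 0 1)) * h3'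
      · linear_combination -(circle_det z.2.2.2) - 2 * z.1.2 - 2 * z.2.1.2 +
          (z.1.1 * (z.2.2 : SL(2, F)) 0 0 + z.2.1.1 * (z.2.2 : SL(2, F)) 0 1 - 2) * h3'
      · simp only [tr_mk4, tr_ww_mk4, eA, eB]
        refine ⟨⟨⟨z.1.2, z.2.1.2⟩, ?_⟩, fun e => ?_, fun e => ?_⟩
        · rw [mem_circle]
          simp
          intro ha hb
          have hc := circle_det z.2.2.2
          have u0 : (z.2.2 : SL(2, F)) 0 0 = 0 := by
            linear_combination -ha + ((z.2.2 : SL(2, F)) 0 0 - z.1.1) * h3'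
          have v0 : (z.2.2 : SL(2, F)) 0 1 = 0 := by
            linear_combination -hb + ((z.2.2 : SL(2, F)) 0 1 - z.2.1.1) * h3'
          rw [u0, v0] at hc
          simp at hc
        · have := z.2.1.2; rw [e] at this; simp at this
        · have := z.1.2; rw [e] at this; simp at this
      · intro g
        refine Subtype.ext (ext2 ?_ ?_ ?_ ?_) <;> simp [mkCircle, tr_ww_mul] <;> simp only [tr_def]
        · ring
        · ring
      · intro z
        have hc2 := z.2.2.2.2
        refine Prod.ext (Subtype.ext ?_) (Prod.ext (Subtype.ext ?_) (Subtype.ext ?_))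
        · show tr _ = _; rw [tr_mk4, eA]
        · show tr (ww * _) = _; rw [tr_ww_mk4, eB]
        · refine ext2 ?_ ?_ ?_ ?_ <;>
            simp [mkCircle, tr_mk4, tr_ww_mk4, eA, eB, hc2, ← z.2.2.2.1]
    rw [hgcd, card_or] at h
    have e3 : Nat.card {g : SL(2, F) //
        ((g ∈ circle F ∨ tr g ^ 2 = 1 ∧ tr (ww * g) ^ 2 = 1) ∧ ¬ tr (ww * g) = 0) ∧ ¬ tr g = 0} =
        Nat.card {g : SL(2, F) // (g ∈ circle F ∧ ¬ tr (ww * g) = 0) ∧ ¬ tr g = 0} +
        Nat.card {g : SL(2, F) // ((tr g ^ 2 = 1 ∧ tr (ww * g) ^ 2 = 1) ∧ ¬ g ∈ circle F) ∧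
          ¬ tr (ww * g) = 0 ∧ ¬ tr g = 0} := by
      simp only [Nat.card_eq_fintype_card, Fintype.card_subtype]
      rw [← Finset.card_union_of_disjoint]
      · congr 1
        ext g
        by_cases hm : g ∈ circle F <;> simp [hm, and_assoc]
      · rw [Finset.disjoint_left]
        intro g h1 h2'
        simp only [Finset.mem_filter] at h1 h2'
        exact h2'.2.1.2 h1.2.1.1
    have hor : Nat.card {g : SL(2, F) // (tr (ww * g) = 0 ∨
        (g ∈ circle F ∨ tr g ^ 2 = 1 ∧ tr (ww * g) ^ 2 = 1)) ∧ ¬ tr g = 0} =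
        Nat.card {g : SL(2, F) // tr (ww * g) = 0 ∧ ¬ tr g = 0} +
        Nat.card {g : SL(2, F) //
          ((g ∈ circle F ∨ tr g ^ 2 = 1 ∧ tr (ww * g) ^ 2 = 1) ∧ ¬ tr (ww * g) = 0) ∧ ¬ tr g = 0} := by
      simp only [Nat.card_eq_fintype_card, Fintype.card_subtype]
      rw [← Finset.card_union_of_disjoint]
      · congr 1
        ext g
        by_cases hm : tr (ww * g) = 0 <;> simp [hm]
      · rw [Finset.disjoint_left]
        intro g h1 h2'
        simp only [Finset.mem_filter] at h1 h2'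
        exact h2'.2.1.2 h1.2.1
    rw [hor, e3, c1, c4] at h
    have := one_lt_q (F := F)
    have hqq : Fintype.card F * (Fintype.card F + 1) =
        Fintype.card F * (Fintype.card F - 1) + 2 * Fintype.card F := by
      obtain ⟨q, hq⟩ : ∃ q, Fintype.card F = q + 1 := ⟨Fintype.card F - 1, by omega⟩
      rw [hq, Nat.add_sub_cancel]; ring
    omega
  · intro g
    constructor
    · intro h
      have hw1 : mk (ww : SL(2, F)) ≠ 1 := mk_ne_one_iff.2 hwell.not_mem_center
      rcases rel_cases hw1 h with ⟨k, h1, -⟩ | ⟨u, hu, h1, h2'⟩ | ⟨-, -, hy, hxy⟩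
      · exfalso
        have hb := conj_mk_mem_borel.1 h1
        have ht : tr (k * ww * k⁻¹) = tr (ww : SL(2, F)) := tr_conj k ww
        have hd := det_eq (k * ww * k⁻¹)
        rw [mem_borel.1 hb] at hd
        rw [tr_def] at ht
        generalize k * (ww : SL(2, F)) * k⁻¹ = z at ht hd
        exact hwell (z 0 0) (by linear_combination (z 0 0) * ht - hd)
      · have hn := mk_mem_normalizer.1 h1
        have hg := mk_mem_normalizer.1 h2'
        by_cases hc : (ww : SL(2, F)) ∈ cent u
        · have hcent := cent_eq_cent (not_mem_center_of_tr hu) hwell.not_mem_center (mem_cent.1 hc)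
          rw [← hcent] at hg
          by_cases hgc : g ∈ cent (ww : SL(2, F))
          · exact Or.inr (Or.inr (Or.inl (commute_ww_iff.1 (mem_cent.1 hgc))))
          · exact Or.inl (sq_eq_neg_one_iff.1 (sq_eq_neg_one_of_inverting hwell.sq_ne_four
              (inverting_of_mem_normalizer hwell.sq_ne_four hg hgc _ (mem_cent.2 (Commute.refl _)))))
        · exact (tr_zero_of_pair hu hn hc hg).imp_right Or.inl
      · rw [← map_mul] at hxy
        have hy' := tr_cube_of_pow h8 h3 hy
        have hxy' := tr_cube_of_pow h8 h3 hxy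
        by_cases h0 : tr g = 0
        · exact Or.inl h0
        by_cases h0' : tr (ww * g) = 0
        · exact Or.inr (Or.inl h0')
        refine Or.inr (Or.inr (Or.inr ⟨?_, ?_⟩))
        · exact sub_eq_zero.1 ((mul_eq_zero.1 (show tr g * (tr g ^ 2 - 1) = 0 by
            linear_combination hy')).resolve_left h0)
        · exact sub_eq_zero.1 ((mul_eq_zero.1 (show tr (ww * g) * (tr (ww * g) ^ 2 - 1) = 0 by
            linear_combination hxy')).resolve_left h0')
    · have hw2 := mk_sq_of_tr htw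
      rintro (h | h | h | ⟨h, h'⟩)
      · exact rel_involutions hw2 (mk_sq_of_tr h)
      · exact rel_involution_left hw2 (by rw [← map_mul]; exact mk_sq_of_tr h)
      · exact rel_comm (by rw [← map_mul, ← map_mul, (commute_ww_iff.2 h).eq])
      · exact rel_tetrahedral hw2 (mk_cube_of_tr h) (by rw [← map_mul]; exact mk_cube_of_tr h')

end CharThree

end Cfsg.Agent.Solubilizer
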